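import Cfsg.Agent.MaxSub.UnitarySubspace
import Cfsg.Agent.MaxSub.UnitaryCircle

/-!
# Centres of transvections in overgroups inside `SU₃`

Two isotropic centres give their chord, three centres off a line give every isotropic point. A full root
group in an irreducible subgroup gives everything, and the stabilisers of points are maximal.
-/

set_option autoImplicit false
set_option linter.unusedSectionVars false

namespace CfsgLib.SUThree

open Matrix Cfsg.Geo CfsgLib.MaxSub CfsgLib.MaxSub.UC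

variable {F : Type*} [Field F] [Fintype F] {q : ℕ} {σ : F ≃+* F}
  (hf : IsUnitaryForm σ (Cfsg.hermForm 3 F q))

include hf

/-- Independent isotropic vectors are not orthogonal. -/
theorem iso_not_orth {x y : Fin 3 → F} (hx : Cfsg.hermForm 3 F q x x = 0) (hy : Cfsg.hermForm 3 F q y y = 0)
    (hi : LinearIndependent F ![x, y]) : Cfsg.hermForm 3 F q x y ≠ 0 := by
  intro hxy
  have hs := sesqForm_of_unitary hf
  obtain ⟨t, ht, htt⟩ := exists_noniso hf (Submodule.span F (Set.range ![x, y]))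
    (by rw [finrank_span_eq_card hi]; simp)
  rw [Submodule.mem_span_range_iff_exists_fun] at ht
  obtain ⟨s, rfl⟩ := ht
  refine htt ?_
  simp [Fin.sum_univ_two, hs.add_left, hs.add_right, hs.smul_left, hs.smul_right, hx, hy, hxy,
    unitary_orth_symm hf hxy]

/-- Isotropic vectors off a line are not orthogonal. -/
theorem iso_not_orth' {x y : Fin 3 → F} (hx : Cfsg.hermForm 3 F q x x = 0) (hy : Cfsg.hermForm 3 F q y y = 0)
    (hy0 : y ≠ 0) (hxy : ∀ c : F, c • y ≠ x) : Cfsg.hermForm 3 F q x y ≠ 0 :=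
  unitary_ne_symm hf (iso_not_orth hf hy hx ((LinearIndependent.pair_iff' hy0).2 hxy))

/-- The chord through two centres. -/
theorem centreIn_span {M : Subgroup (GL (Fin 3) F)} {x y : Fin 3 → F}
    (hx : Cfsg.hermForm 3 F q x x = 0) (hy : Cfsg.hermForm 3 F q y y = 0) (hxy : Cfsg.hermForm 3 F q x y ≠ 0)
    (hcx : CentreIn q σ M x) (hcy : CentreIn q σ M y) (s t : F)
    (h : Cfsg.hermForm 3 F q (s • x + t • y) (s • x + t • y) = 0) : CentreIn q σ M (s • x + t • y) := by
  have hs := sesqForm_of_unitary hf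
  rcases eq_or_ne s 0 with rfl | hs0
  · rw [zero_smul, zero_add]; exact centreIn_smul hf hcy t
  rcases eq_or_ne t 0 with rfl | ht0
  · rw [zero_smul, add_zero]; exact centreIn_smul hf hcx s
  exact centreIn_add hf (centreIn_smul hf hcx s) (centreIn_smul hf hcy t)
    (by rw [hs.smul_left, hs.smul_right, hx, mul_zero, mul_zero])
    (by rw [hs.smul_left, hs.smul_right, hy, mul_zero, mul_zero])
    (by rw [hs.smul_left, hs.smul_right]
        exact mul_ne_zero hs0 (mul_ne_zero ((map_ne_zero σ).2 ht0) hxy)) h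

/-- A frame of an isotropic pair. -/
theorem exists_pole {e f : Fin 3 → F} (he : Cfsg.hermForm 3 F q e e = 0) (hff : Cfsg.hermForm 3 F q f f = 0)
    (hef : Cfsg.hermForm 3 F q e f = 1) :
    ∃ a, Cfsg.hermForm 3 F q a e = 0 ∧ Cfsg.hermForm 3 F q a f = 0 ∧ Cfsg.hermForm 3 F q a a ≠ 0 ∧
      ∀ v, ∃ r : F, v = Cfsg.hermForm 3 F q v f • e + Cfsg.hermForm 3 F q v e • f + r • a := by
  classical
  have hs := sesqForm_of_unitary hf
  have hfe : Cfsg.hermForm 3 F q f e = 1 := by rw [hf.herm, hef, map_one]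
  obtain ⟨a, ha, ha0⟩ := Submodule.exists_mem_ne_zero_of_ne_bot
    (p := dotsKer ![leftVec (Cfsg.hermForm 3 F q) e, leftVec (Cfsg.hermForm 3 F q) f]) (fun h => by
      have h' := finrank_dotsKer ![leftVec (Cfsg.hermForm 3 F q) e, leftVec (Cfsg.hermForm 3 F q) f]
      rw [h, finrank_bot, Fintype.card_fin] at h'
      omega)
  rw [mem_dotsKer] at ha
  have hae : Cfsg.hermForm 3 F q a e = 0 := by
    have := ha 0; simpa [hs.dot_leftVec] using this
  have haf : Cfsg.hermForm 3 F q a f = 0 := by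
    have := ha 1; simpa [hs.dot_leftVec] using this
  have hea := unitary_orth_symm hf hae
  have hfa := unitary_orth_symm hf haf
  have hind : LinearIndependent F ![e, f, a] := by
    rw [Fintype.linearIndependent_iff]
    intro c hc
    rw [Fin.sum_univ_three] at hc
    simp only [Matrix.cons_val_zero, Matrix.cons_val_one, Matrix.cons_val] at hc
    have h1 := congrArg (fun x => Cfsg.hermForm 3 F q x f) hc
    have h2 := congrArg (fun x => Cfsg.hermForm 3 F q x e) hc
    simp only [hs.add_left, hs.smul_left, he, hff, hef, hfe, hae, haf, hs.zero_left, mul_zero, mul_one,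
      zero_add, add_zero] at h1 h2
    rw [h1, h2, zero_smul, zero_smul, zero_add, zero_add, smul_eq_zero] at hc
    intro i
    fin_cases i
    exacts [h1, h2, hc.resolve_right ha0]
  have hrep : ∀ v, ∃ r : F, v = Cfsg.hermForm 3 F q v f • e + Cfsg.hermForm 3 F q v e • f + r • a := by
    intro v
    let b := basisOfLinearIndependentOfCardEqFinrank hind (by simp)
    have hv := (b.sum_repr v).symm
    rw [Fin.sum_univ_three] at hv
    simp only [b, coe_basisOfLinearIndependentOfCardEqFinrank, Matrix.cons_val_zero, Matrix.cons_val_one,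
      Matrix.cons_val] at hv
    refine ⟨b.repr v 2, ?_⟩
    have h1 := congrArg (fun x => Cfsg.hermForm 3 F q x f) hv
    have h2 := congrArg (fun x => Cfsg.hermForm 3 F q x e) hv
    simp only [hs.add_left, hs.smul_left, he, hff, hef, hfe, hae, haf, mul_zero, mul_one,
      zero_add, add_zero] at h1 h2
    rw [h1, h2]
    exact hv
  refine ⟨a, hae, haf, fun haa => ?_, hrep⟩
  obtain ⟨x, hx⟩ := (hf.nondegenerate a ha0).2
  obtain ⟨r, hr⟩ := hrep x
  rw [hr, hs.add_right, hs.add_right, hs.smul_right, hs.smul_right, hs.smul_right, hae, haf, haa] at hx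
  simp at hx

/-- A move along the chord. -/
theorem centreIn_move {M : Subgroup (GL (Fin 3) F)} {e f a : Fin 3 → F}
    (he : Cfsg.hermForm 3 F q e e = 0) (hfe : Cfsg.hermForm 3 F q f e = 1)
    (hae : Cfsg.hermForm 3 F q a e = 0) (hce : CentreIn q σ M e) {s t r c : F} (hc : σ c = -c)
    (h : CentreIn q σ M (s • e + t • f + r • a)) : CentreIn q σ M ((s + c * t) • e + t • f + r • a) := by
  have hs := sesqForm_of_unitary hf
  have := centreIn_map hf h (uTv_mem hf he hc).1 (hce c hc)
  rw [uTv_mulVec hf he, hs.add_left, hs.add_left, hs.smul_left, hs.smul_left, hs.smul_left, he, hfe, hae,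
    mul_zero, mul_zero, zero_add, add_zero, mul_one] at this
  convert this using 1
  module

/-- The orbit of the transvections at `e`, `f` on the vectors of a given norm. -/
theorem centreIn_reach {M : Subgroup (GL (Fin 3) F)} {e f a : Fin 3 → F}
    (he : Cfsg.hermForm 3 F q e e = 0) (hff : Cfsg.hermForm 3 F q f f = 0)
    (hef : Cfsg.hermForm 3 F q e f = 1) (hae : Cfsg.hermForm 3 F q a e = 0) (haf : Cfsg.hermForm 3 F q a f = 0)
    (hce : CentreIn q σ M e) (hcf : CentreIn q σ M f) {s t s' t' r : F}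
    (hN : s' * σ t' + t' * σ s' = s * σ t + t * σ s) (hN0 : s * σ t + t * σ s ≠ 0)
    (h : CentreIn q σ M (s • e + t • f + r • a)) : CentreIn q σ M (s' • e + t' • f + r • a) := by
  have hfe : Cfsg.hermForm 3 F q f e = 1 := by rw [hf.herm, hef, map_one]
  have hnz : ∀ {x y : F}, x * σ y + y * σ x ≠ 0 → x ≠ 0 ∧ y ≠ 0 := fun {x y} h =>
    ⟨fun e => h (by rw [e, map_zero]; ring), fun e => h (by rw [e, map_zero]; ring)⟩
  have hsame : ∀ {s s' t : F}, t ≠ 0 → s' * σ t + t * σ s' = s * σ t + t * σ s →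
      CentreIn q σ M (s • e + t • f + r • a) → CentreIn q σ M (s' • e + t • f + r • a) := by
    intro s s' t ht hN h
    have hσt : σ t ≠ 0 := (map_ne_zero σ).2 ht
    have := centreIn_move hf he hfe hae hce (c := (s' - s) / t) (by
      rw [map_div₀, map_sub]; field_simp; linear_combination hN) h
    rwa [div_mul_cancel₀ _ ht, add_sub_cancel] at this
  have hother : ∀ {s s' t t' : F}, s' * σ t' + t' * σ s' = s * σ t + t * σ s → s * σ t + t * σ s ≠ 0 →
      σ (t' / t) ≠ t' / t →
      CentreIn q σ M (s • e + t • f + r • a) → CentreIn q σ M (s' • e + t' • f + r • a) := by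
    intro s s' t t' hN hN0 hz h
    obtain ⟨-, ht⟩ := hnz hN0
    obtain ⟨-, ht'⟩ := hnz (hN ▸ hN0)
    have hσt : σ t ≠ 0 := (map_ne_zero σ).2 ht
    set N := s * σ t + t * σ s with hNdef
    have hσN : σ N = N := by rw [hNdef, map_add, map_mul, map_mul, hf.involutive, hf.involutive]; ring
    set z := t' / t - 1 with hzdef
    clear_value z
    have hz0 : z - σ z ≠ 0 := fun e => hz (by
      have : σ z = z := (sub_eq_zero.1 e).symm
      rw [hzdef, map_sub, map_one] at this
      linear_combination this)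
    set ρ := N / (t * σ t) with hρ
    have hρ0 : ρ ≠ 0 := div_ne_zero hN0 (mul_ne_zero ht hσt)
    have hσρ : σ ρ = ρ := by rw [hρ, map_div₀, map_mul, hσN, hf.involutive, mul_comm]
    set τ := z * ρ / (z - σ z) with hτ
    have hsum : τ + σ τ = ρ := by
      have hn : σ z - z ≠ 0 := fun e => hz0 (by linear_combination -e)
      rw [hτ, map_div₀, map_sub, map_mul, hf.involutive, hσρ]
      field_simp
      ring
    have hρt : ρ * (t * σ t) = N := div_mul_cancel₀ _ (mul_ne_zero ht hσt)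
    have h1 := hsame ht (s' := t * τ) (by
      rw [map_mul, ← hNdef]; linear_combination t * σ t * hsum + hρt) h
    have h2 := centreIn_move hf hff hef haf hcf (e := f) (f := e) (a := a) (c := (z - σ z) / ρ)
      (s := t) (t := t * τ) (r := r)
      (by rw [map_div₀, map_sub, hf.involutive, hσρ]; ring)
      (by convert h1 using 1; abel)
    rw [show t + (z - σ z) / ρ * (t * τ) = t' by
      rw [show (z - σ z) / ρ * (t * τ) = t * z by rw [hτ]; field_simp, hzdef]; field_simp; ring] at h2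
    refine hsame ht' (s := t * τ) ?_ (by convert h2 using 1; abel)
    rw [hN]
    have hw : (z - σ z) / ρ * τ = z := by rw [hτ]; field_simp
    have hkey : t' = t + t * z := by rw [hzdef]; field_simp; ring
    rw [hkey, map_add, map_mul, map_mul]
    have hzz : τ * σ z + σ τ * z = 0 := by
      have hn : σ z - z ≠ 0 := fun e => hz0 (by linear_combination -e)
      rw [hτ, map_div₀, map_sub, map_mul, hf.involutive, hσρ]
      field_simp
      ring
    linear_combination -(t * σ t) * hsum - t * σ t * hzz - hρt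
  obtain ⟨hs0, ht0⟩ := hnz hN0
  by_cases hz : σ (t' / t) = t' / t
  · obtain ⟨-, ht'0⟩ := hnz (hN ▸ hN0)
    obtain ⟨w, hw⟩ := exists_moved hf.ne_refl
    have hw0 : w ≠ 0 := fun e => hw (by rw [e, map_zero])
    have hσw : σ w ≠ 0 := (map_ne_zero σ).2 hw0
    -- an intermediate second coordinate
    refine hother (s := s / σ w) (t := t * w) (by
        rw [hN, map_mul, map_div₀, hf.involutive]; field_simp) ?_ (fun e => hw ?_) (hother
      (s := s) (t := t) (by rw [map_mul, map_div₀, hf.involutive]; field_simp) hN0 (fun e => hw ?_) h)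
    · rw [map_mul, map_div₀, hf.involutive]
      convert hN0 using 1
      field_simp
    · rw [← div_div, map_div₀, hz, div_eq_div_iff hσw hw0] at e
      exact (mul_left_cancel₀ (div_ne_zero ht'0 ht0) e).symm
    · rwa [mul_div_cancel_left₀ _ ht0] at e
  · exact hother hN hN0 hz h

/-- Three centres off a line give all. -/
theorem centreIn_all_of_three {M : Subgroup (GL (Fin 3) F)} {x y z : Fin 3 → F}
    (hx : Cfsg.hermForm 3 F q x x = 0) (hy : Cfsg.hermForm 3 F q y y = 0) (hz : Cfsg.hermForm 3 F q z z = 0)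
    (hxy : Cfsg.hermForm 3 F q x y ≠ 0) (hzP : ∀ s t : F, s • x + t • y ≠ z)
    (hcx : CentreIn q σ M x) (hcy : CentreIn q σ M y) (hcz : CentreIn q σ M z) (v : Fin 3 → F)
    (hv : Cfsg.hermForm 3 F q v v = 0) : CentreIn q σ M v := by
  have hs := sesqForm_of_unitary hf
  set e := (Cfsg.hermForm 3 F q x y)⁻¹ • x with he'
  have he : Cfsg.hermForm 3 F q e e = 0 := by rw [he', hs.smul_left, hs.smul_right, hx, mul_zero, mul_zero]
  have hef : Cfsg.hermForm 3 F q e y = 1 := by rw [he', hs.smul_left, inv_mul_cancel₀ hxy]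
  have hye : Cfsg.hermForm 3 F q y e = 1 := by rw [hf.herm, hef, map_one]
  have hce : CentreIn q σ M e := centreIn_smul hf hcx _
  obtain ⟨a, hae, haf, haa, hrep⟩ := exists_pole hf he hy hef
  have hnorm : ∀ s t r : F, Cfsg.hermForm 3 F q (s • e + t • y + r • a) (s • e + t • y + r • a) =
      s * σ t + t * σ s + r * σ r * Cfsg.hermForm 3 F q a a := fun s t r => by
    simp only [hs.add_left, hs.add_right, hs.smul_left, hs.smul_right, he, hy, hef, hye, hae, haf,
      unitary_orth_symm hf hae, unitary_orth_symm hf haf]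
    ring
  obtain ⟨r₀, hr₀⟩ := hrep z
  set s₀ := Cfsg.hermForm 3 F q z y
  set t₀ := Cfsg.hermForm 3 F q z e
  have hr0 : r₀ ≠ 0 := fun h => hzP (s₀ * (Cfsg.hermForm 3 F q x y)⁻¹) t₀ (by
    rw [hr₀, h, zero_smul, add_zero, he', smul_smul])
  have hz0 := hz
  rw [hr₀, hnorm] at hz0
  obtain ⟨r, hr⟩ := hrep v
  set s := Cfsg.hermForm 3 F q v y
  set t := Cfsg.hermForm 3 F q v e
  have hv0 := hv
  rw [hr, hnorm] at hv0
  rcases eq_or_ne r 0 with h | h
  · rw [hr, h, zero_smul, add_zero] at hv ⊢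
    exact centreIn_span hf he hy (by rw [hef]; exact one_ne_zero) hce hcy s t hv
  have key := centreIn_reach hf he hy hef hae haf hce hcy (s' := r₀ / r * s) (t' := r₀ / r * t)
    (s := s₀) (t := t₀) (r := r₀) (by
      have hσr : σ r ≠ 0 := (map_ne_zero σ).2 h
      rw [map_mul, map_mul, map_div₀]
      field_simp
      linear_combination r₀ * σ r₀ * hv0 - r * σ r * hz0)
    (fun h' => by
      rw [h', zero_add] at hz0
      exact mul_ne_zero (mul_ne_zero hr0 ((map_ne_zero σ).2 hr0)) haa hz0)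
    (hr₀ ▸ hcz)
  have := centreIn_smul hf key (r / r₀)
  convert this using 1
  rw [hr]
  match_scalars <;> field_simp

/-- The special unitary group is generated by its transvections. -/
theorem su_le_of_forall_centre (hb : Circle.IsBar q σ) (hq : 3 ≤ q) {M : Subgroup (GL (Fin 3) F)}
    (h : ∀ v, Cfsg.hermForm 3 F q v v = 0 → CentreIn q σ M v) :
    Cfsg.GU 3 F q ⊓ specialLinear (Fin 3) F ≤ M := by
  obtain ⟨C, hC⟩ := CfsgLib.RepBounds.Unit.exists_conjField q hb.card
  subst hC
  rintro g ⟨hg, hg'⟩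
  have key : ∀ A : CfsgLib.RepBounds.Unit.suG C (Fin 3), ∃ k ∈ M, (k : Matrix (Fin 3) (Fin 3) F) = A.1.1 := by
    intro A
    have hA : A ∈ CfsgLib.RepBounds.Unit.transvs C (Fin 3) := by
      rw [CfsgLib.RepBounds.Unit.transvs_eq_top C (by rintro ⟨-, h2⟩; omega)]
      exact Subgroup.mem_top A
    induction hA using Subgroup.closure_induction with
    | mem A hA =>
      obtain ⟨v, c, hv, hc, hA⟩ := hA
      rw [← CfsgLib.RepBounds.Unit.hermForm_eq] at hv
      have hc' : σ c = -c := by rw [hb.eq_pow, ← C.pow, C.skew_eq hc]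
      refine ⟨uTv C.q v c, h v hv c hc', Matrix.ext_iff_mulVec.mpr fun x => ?_⟩
      rw [uTv_mulVec hf hv, CfsgLib.RepBounds.Unit.hermForm_eq]
      exact (hA x).symm
    | one => exact ⟨1, M.one_mem, rfl⟩
    | mul A B _ _ hA hB =>
      obtain ⟨a, ha, ha'⟩ := hA
      obtain ⟨b, hb', hb''⟩ := hB
      exact ⟨a * b, M.mul_mem ha hb', by rw [Units.val_mul, ha', hb'']; rfl⟩
    | inv A _ hA =>
      obtain ⟨a, ha, ha'⟩ := hA
      refine ⟨a⁻¹, M.inv_mem ha, ?_⟩
      apply Units.inv_eq_of_mul_eq_one_right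
      rw [ha']
      exact congrArg (fun B : CfsgLib.RepBounds.Unit.suG C (Fin 3) => B.1.1) (mul_inv_cancel A)
  obtain ⟨k, hk, hk'⟩ := key ⟨⟨(g : Matrix (Fin 3) (Fin 3) F), (su_det hf).mp hg'⟩, by
    rw [CfsgLib.RepBounds.Unit.suG_fin_eq]; exact hg⟩
  rwa [← Units.ext hk']

/-- **A full root group in an irreducible subgroup gives everything.** -/
theorem su_le_of_centre (hb : Circle.IsBar q σ) (hq : 3 ≤ q) {M : Subgroup (GL (Fin 3) F)}
    (hMG : M ≤ Cfsg.GU 3 F q) (hirr : MaxSub.Irreducible M) {v : Fin 3 → F}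
    (hv : Cfsg.hermForm 3 F q v v = 0) (hv0 : v ≠ 0) (hcv : CentreIn q σ M v) :
    Cfsg.GU 3 F q ⊓ specialLinear (Fin 3) F ≤ M := by
  set W := Submodule.span F (Set.range fun g : M => ((g : GL (Fin 3) F) : Matrix (Fin 3) (Fin 3) F) *ᵥ v)
  have hmem : ∀ g ∈ M, (g : Matrix (Fin 3) (Fin 3) F) *ᵥ v ∈ W := fun g hg =>
    Submodule.subset_span ⟨⟨g, hg⟩, rfl⟩
  have hW : W = ⊤ := by
    refine (hirr W fun g hg w hw => ?_).resolve_left fun h => hv0 ?_
    · induction hw using Submodule.span_induction with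
      | mem x hx =>
        obtain ⟨h, rfl⟩ := hx
        simp only [mulVec_mulVec, ← Units.val_mul]
        exact hmem _ (M.mul_mem hg h.2)
      | zero => rw [mulVec_zero]; exact W.zero_mem
      | add x y _ _ hx hy => rw [mulVec_add]; exact W.add_mem hx hy
      | smul c x _ hx => rw [mulVec_smul]; exact W.smul_mem c hx
    · have := hmem 1 M.one_mem
      rw [h, Units.val_one, one_mulVec] at this
      simpa using this
  have hout : ∀ U : Submodule F (Fin 3 → F), U ≠ ⊤ → ∃ g ∈ M, (g : Matrix (Fin 3) (Fin 3) F) *ᵥ v ∉ U := by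
    intro U hU
    by_contra h
    push Not at h
    exact hU (eq_top_iff.2 (hW ▸ Submodule.span_le.2 (by rintro _ ⟨g, rfl⟩; exact h _ g.2)))
  have hiso : ∀ g ∈ M, Cfsg.hermForm 3 F q ((g : Matrix (Fin 3) (Fin 3) F) *ᵥ v)
      ((g : Matrix (Fin 3) (Fin 3) F) *ᵥ v) = 0 := fun g hg => by
    rw [mem_GU_iff_forall.1 (hMG hg), hv]
  obtain ⟨g₁, hg₁, h1⟩ := hout (Submodule.span F {v}) (fun h => by
    have := congrArg (fun U : Submodule F (Fin 3 → F) => Module.finrank F U) h
    simp [finrank_span_singleton hv0] at this)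
  set w := (g₁ : Matrix (Fin 3) (Fin 3) F) *ᵥ v
  have hvw : Cfsg.hermForm 3 F q v w ≠ 0 := unitary_ne_symm hf
    (iso_not_orth' hf (hiso g₁ hg₁) hv hv0 fun c hc => h1 (Submodule.mem_span_singleton.2 ⟨c, hc⟩))
  obtain ⟨g₂, hg₂, h2⟩ := hout (Submodule.span F ({v, w} : Set (Fin 3 → F))) (fun h => by
    classical
    have h' := finrank_span_finset_le_card (R := F) ({v, w} : Finset (Fin 3 → F))
    rw [Finset.coe_insert, Finset.coe_singleton, Set.finrank, h, finrank_top, Module.finrank_fin_fun] at h'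
    have := Finset.card_le_two (a := v) (b := w)
    omega)
  exact su_le_of_forall_centre hf hb hq fun u hu => centreIn_all_of_three hf hv (hiso g₁ hg₁) (hiso g₂ hg₂) hvw
    (fun s t h => h2 (Submodule.mem_span_pair.2 ⟨s, t, h⟩)) hcv
    (centreIn_map hf hcv (hMG hg₁) hg₁) (centreIn_map hf hcv (hMG hg₂) hg₂) u hu

/-- **The stabiliser of an isotropic point is maximal.** -/
theorem isMaximalIn_uPoint {W : Submodule F (Fin 3 → F)} (hW0 : W ≠ ⊥)
    (hW : IsTotallySingularFor (Cfsg.hermForm 3 F q) W) :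
    IsMaximalIn (Cfsg.GU 3 F q ⊓ specialLinear (Fin 3) F)
      (subspaceStabilizer W ⊓ (Cfsg.GU 3 F q ⊓ specialLinear (Fin 3) F)) := by
  have hs := sesqForm_of_unitary hf
  obtain ⟨w, hw, hw0⟩ := Submodule.exists_mem_ne_zero_of_ne_bot hW0
  have hww := hW w hw w hw
  have hline : ∀ u ∈ W, ∃ c : F, c • w = u := by
    intro u hu
    by_contra h
    push Not at h
    exact iso_not_orth hf hww (hW u hu u hu) ((LinearIndependent.pair_iff' hw0).2 h) (hW w hw u hu)
  have hout : ∀ u, Cfsg.hermForm 3 F q u u = 0 → u ∉ W → Cfsg.hermForm 3 F q u w ≠ 0 := fun u hu hn =>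
    iso_not_orth' hf hu hww hw0 fun c hc => hn (hc ▸ W.smul_mem c hw)
  have hstab : ∀ g : GL (Fin 3) F, (g : Matrix (Fin 3) (Fin 3) F) *ᵥ w ∈ W → g ∈ subspaceStabilizer W := by
    intro g hg
    refine mem_subspaceStabilizer_of_le fun x hx => ?_
    obtain ⟨c, rfl⟩ := hline x hx
    rw [mulVec_smul]
    exact W.smul_mem c hg
  refine isMaximalIn_of inf_le_right ?_ fun M hHM hMK g hg hg' h hh => ?_
  · obtain ⟨δ, hδ0, hδ⟩ := exists_traceZero hf.ne_refl hf.involutive
    obtain ⟨y, hy⟩ := hs.exists_left_ne_zero hw0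
    obtain ⟨x, -, hx, hxw⟩ := exists_iso_partner hf (U := ⊤) Submodule.mem_top hww Submodule.mem_top hy
    refine ⟨uTv q x δ, uTv_mem hf hx hδ, fun h => ?_⟩
    have := (mem_subspaceStabilizer_iff.1 h.1 w).1 hw
    rw [uTv_mulVec hf hx, W.add_mem_iff_right hw, W.smul_mem_iff (mul_ne_zero hδ0
      (unitary_ne_symm hf (by rw [hxw]; exact one_ne_zero)))] at this
    exact one_ne_zero (hxw.symm.trans (hW x this w hw))
  · have hgw : (g : Matrix (Fin 3) (Fin 3) F) *ᵥ w ∉ W := fun e => hg' ⟨hstab g e, hMK hg⟩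
    by_cases hhw : (h : Matrix (Fin 3) (Fin 3) F) *ᵥ w ∈ W
    · exact hHM ⟨hstab h hhw, hh⟩
    have hiso : ∀ k : GL (Fin 3) F, k ∈ Cfsg.GU 3 F q → Cfsg.hermForm 3 F q
        ((k : Matrix (Fin 3) (Fin 3) F) *ᵥ w) ((k : Matrix (Fin 3) (Fin 3) F) *ᵥ w) = 0 := fun k hk => by
      rw [mem_GU_iff_forall.1 hk, hww]
    set x := (g : Matrix (Fin 3) (Fin 3) F) *ᵥ w with hx
    set u := (h : Matrix (Fin 3) (Fin 3) F) *ᵥ w with hu
    have hxw := hout x (hiso g (hMK hg).1) hgw
    have huw := hout u (hiso h hh.1) hhw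
    obtain ⟨k, hk, hkx⟩ := exists_stab_move hf hW (a := w)
      (x := (Cfsg.hermForm 3 F q x w)⁻¹ • x) (u := (Cfsg.hermForm 3 F q u w)⁻¹ • u) hw
      (by rw [hs.smul_left, inv_mul_cancel₀ hxw]) (by rw [hs.smul_left, inv_mul_cancel₀ huw])
      (by rw [hs.smul_left, hs.smul_right, hiso g (hMK hg).1, mul_zero, mul_zero])
      (by rw [hs.smul_left, hs.smul_right, hiso h hh.1, mul_zero, mul_zero])
    have hkg : k * g ∈ M := M.mul_mem (hHM hk) hg
    have hmem : (k * g)⁻¹ * h ∈ M := by
      refine hHM ⟨hstab _ ?_, Subgroup.mul_mem _ (Subgroup.inv_mem _ (hMK hkg)) hh⟩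
      have e : u = (Cfsg.hermForm 3 F q u w * (Cfsg.hermForm 3 F q x w)⁻¹) •
          (((k * g : GL (Fin 3) F) : Matrix (Fin 3) (Fin 3) F) *ᵥ w) := by
        rw [Units.val_mul, ← mulVec_mulVec, ← hx, ← smul_smul, ← mulVec_smul, hkx, smul_inv_smul₀ huw]
      rw [Units.val_mul, ← mulVec_mulVec, ← hu, e, mulVec_smul, mulVec_mulVec, Units.inv_mul, one_mulVec]
      exact W.smul_mem _ hw
    have := M.mul_mem hkg hmem
    rwa [mul_inv_cancel_left] at this

/-- **The stabiliser of a non-degenerate point is maximal.** -/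
theorem isMaximalIn_uNdPoint (hb : Circle.IsBar q σ) (hq : 3 ≤ q) {W : Submodule F (Fin 3 → F)} (hW0 : W ≠ ⊥)
    (hW : IsNondegenerateOn (Cfsg.hermForm 3 F q) W) (hdim : 2 * Module.finrank F W < 3) :
    IsMaximalIn (Cfsg.GU 3 F q ⊓ specialLinear (Fin 3) F)
      (subspaceStabilizer W ⊓ (Cfsg.GU 3 F q ⊓ specialLinear (Fin 3) F)) := by
  have hs := sesqForm_of_unitary hf
  obtain ⟨a, ha, ha0⟩ := Submodule.exists_mem_ne_zero_of_ne_bot hW0
  have hline : W = Submodule.span F {a} := (Submodule.eq_of_le_of_finrank_le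
    ((Submodule.span_singleton_le_iff_mem _ _).2 ha) (by rw [finrank_span_singleton ha0]; omega)).symm
  have haa : Cfsg.hermForm 3 F q a a ≠ 0 := by
    intro h
    obtain ⟨-, x, hx, hx'⟩ := hW a ha ha0
    rw [hline, Submodule.mem_span_singleton] at hx
    obtain ⟨c, rfl⟩ := hx
    exact hx' (by rw [hs.smul_right, h, mul_zero])
  have hP : ∀ x, x ∈ uPerp hf W ↔ Cfsg.hermForm 3 F q x a = 0 := fun x => by
    rw [mem_uPerp]
    refine ⟨fun h => h a ha, fun h z hz => ?_⟩
    rw [hline, Submodule.mem_span_singleton] at hz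
    obtain ⟨c, rfl⟩ := hz
    rw [hs.smul_right, h, mul_zero]
  have hperp := finrank_uPerp hf W
  have h1 : Module.finrank F W = 1 := by rw [hline, finrank_span_singleton ha0]
  obtain ⟨z₀, hz₀, hz₀0, hz₀z⟩ := exists_iso_mem hf (uPerp hf W) (by omega)
  obtain ⟨y, hy⟩ := hs.exists_left_ne_zero hz₀0
  obtain ⟨z₁, hz₁, hz₁z, hz₁1⟩ := exists_iso_partner hf (U := uPerp hf W) hz₀ hz₀z
    (w := y - (Cfsg.hermForm 3 F q y a / Cfsg.hermForm 3 F q a a) • a)
    ((hP _).2 (by rw [hs.sub_left, hs.smul_left, div_mul_cancel₀ _ haa, sub_self]))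
    (by rwa [hs.sub_left, hs.smul_left, unitary_orth_symm hf ((hP z₀).1 hz₀), mul_zero, sub_zero])
  refine isMaximalIn_of inf_le_right ?_ fun M hHM hMK g hg hg' => ?_
  · obtain ⟨δ, hδ0, hδ⟩ := exists_traceZero hf.ne_refl hf.involutive
    obtain ⟨m, hm⟩ := trace_surjective hf.ne_refl hf.involutive (a := -Cfsg.hermForm 3 F q a a)
      (by rw [map_neg, herm_self hf])
    set x := a + (z₁ + m • z₀) with hx'
    have ha1 : Cfsg.hermForm 3 F q a (z₁ + m • z₀) = 0 := unitary_orth_symm hf
      ((hP _).1 ((uPerp hf W).add_mem hz₁ ((uPerp hf W).smul_mem m hz₀)))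
    have hxx : Cfsg.hermForm 3 F q x x = 0 := by
      rw [hx', hs.add_left a, hs.add_right a a, hs.add_right (z₁ + m • z₀) a, ha1, unitary_orth_symm hf ha1]
      simp only [hs.add_left, hs.add_right, hs.smul_left, hs.smul_right, hz₀z, hz₁z, hz₁1,
        show Cfsg.hermForm 3 F q z₀ z₁ = 1 by rw [hf.herm, hz₁1, map_one]]
      linear_combination hm
    refine ⟨uTv q x δ, uTv_mem hf hxx hδ, fun h => ?_⟩
    have := (mem_subspaceStabilizer_iff.1 h.1 a).1 ha
    rw [uTv_mulVec hf hxx, W.add_mem_iff_right ha, hx', hs.add_right, ha1, add_zero,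
      W.smul_mem_iff (mul_ne_zero hδ0 haa), W.add_mem_iff_right ha, hline, Submodule.mem_span_singleton] at this
    obtain ⟨c, hc⟩ := this
    have hc0 : c = 0 := by
      have h' := (hP _).1 ((uPerp hf W).add_mem hz₁ ((uPerp hf W).smul_mem m hz₀))
      rw [← hc, hs.smul_left] at h'
      exact (mul_eq_zero.1 h').resolve_right haa
    have h' := congrArg (fun v => Cfsg.hermForm 3 F q v z₀) hc
    simp only [hc0, zero_smul, hs.zero_left, hs.add_left, hs.smul_left, hz₁1, hz₀z, mul_zero, add_zero] at h'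
    exact zero_ne_one h'
  · have hc : ∀ x ∈ uPerp hf W, Cfsg.hermForm 3 F q x x = 0 → CentreIn q σ M x := fun x hx hxx c hc =>
      hHM (uTv_mem_stab hf hxx (Or.inr hx) hc)
    obtain ⟨x, hx, hxx, hgx⟩ : ∃ x ∈ uPerp hf W, Cfsg.hermForm 3 F q x x = 0 ∧
        (g : Matrix (Fin 3) (Fin 3) F) *ᵥ x ∉ uPerp hf W := by
      by_contra hn
      push Not at hn
      have hi : LinearIndependent F ![z₀, z₁] := (LinearIndependent.pair_iff' hz₀0).2 fun c hc => by
        rw [← hc, hs.smul_left, hz₀z, mul_zero] at hz₁1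
        exact zero_ne_one hz₁1
      have hspan : Submodule.span F (Set.range ![z₀, z₁]) = uPerp hf W :=
        Submodule.eq_of_le_of_finrank_le (Submodule.span_le.2 (by
          rintro _ ⟨i, rfl⟩; fin_cases i; exacts [hz₀, hz₁]))
          (by rw [finrank_span_eq_card hi, Fintype.card_fin]; omega)
      have hle : (uPerp hf W).map (g : Matrix (Fin 3) (Fin 3) F).mulVecLin ≤ uPerp hf W := by
        refine Submodule.map_le_iff_le_comap.2 ?_
        conv_lhs => rw [← hspan]
        refine Submodule.span_le.2 ?_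
        rintro _ ⟨i, rfl⟩
        fin_cases i
        · exact hn z₀ hz₀ hz₀z
        · exact hn z₁ hz₁ hz₁z
      have heq := Submodule.eq_of_le_of_finrank_le hle (finrank_map_gl hf g _).ge
      refine hg' ⟨mem_subspaceStabilizer_of_le fun w hw => ?_, hMK hg⟩
      rw [← uPerp_uPerp hf W, mem_uPerp]
      intro z hz
      rw [← heq] at hz
      obtain ⟨z', hz', rfl⟩ := hz
      rw [mulVecLin_apply, mem_GU_iff_forall.1 (hMK hg).1]
      exact unitary_orth_symm hf (hz' w hw)
    exact su_le_of_forall_centre hf hb hq fun v hv =>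
      centreIn_all_of_three hf hz₁z hz₀z (z := (g : Matrix (Fin 3) (Fin 3) F) *ᵥ x)
        (by rw [mem_GU_iff_forall.1 (hMK hg).1, hxx]) (by rw [hz₁1]; exact one_ne_zero)
        (fun s t h => hgx (h ▸ (uPerp hf W).add_mem ((uPerp hf W).smul_mem s hz₁) ((uPerp hf W).smul_mem t hz₀)))
        (hc _ hz₁ hz₁z) (hc _ hz₀ hz₀z) (centreIn_map hf (hc x hx hxx) (hMK hg).1 hg) v hv

end CfsgLib.SUThree
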