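import Cfsg.Agent.MinDegree.UThreeMain
import Cfsg.Agent.Forms4.UnitaryCenter
import Cfsg.Prelude.Def_GeometricClasses

/-!
# The index of a proper subgroup of `SU₃(q)` that contains the scalars
-/

set_option autoImplicit false

namespace CfsgLib.SUThree

open Matrix

variable {F : Type*} [Field F] [Fintype F] {q : ℕ}

/-- The special unitary group as a subgroup of the general linear group. -/
noncomputable def suIncl : Cfsg.SU 3 F q →* GL (Fin 3) F :=
  Matrix.SpecialLinearGroup.toGL.comp (Cfsg.SU 3 F q).subtype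

theorem suIncl_injective : Function.Injective (suIncl (F := F) (q := q)) :=
  Matrix.SpecialLinearGroup.toGL_injective.comp (Subgroup.subtype_injective _)

theorem range_suIncl :
    (suIncl (F := F) (q := q)).range = Cfsg.GU 3 F q ⊓ Cfsg.Geo.specialLinear (Fin 3) F := by
  refine le_antisymm ?_ fun g hg => ?_
  · rintro _ ⟨x, rfl⟩
    refine ⟨x.2, MonoidHom.mem_ker.2 (Units.ext ?_)⟩
    exact x.1.2
  · have hd : (g : Matrix (Fin 3) (Fin 3) F).det = 1 := by
      have h := congrArg Units.val (MonoidHom.mem_ker.1 hg.2)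
      simpa using h
    exact ⟨⟨⟨g, hd⟩, hg.1⟩, Units.ext rfl⟩

theorem card_su (hF : Fintype.card F = q ^ 2) :
    Nat.card ↥(Cfsg.GU 3 F q ⊓ Cfsg.Geo.specialLinear (Fin 3) F) = q ^ 3 * (q ^ 2 - 1) * (q ^ 3 + 1) := by
  obtain ⟨C, rfl⟩ := CfsgLib.RepBounds.Unit.exists_conjField q hF
  rw [← range_suIncl, ← Nat.card_congr (MonoidHom.ofInjective suIncl_injective).toEquiv,
    ← Nat.card_congr (MinDegree.UThreeIndex.stdEquiv C).toEquiv, MinDegree.UThreeIndex.card_GG]

/-- A proper subgroup containing the scalars has index more than `q³`. -/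
theorem card_le_of_scalars (hF : Fintype.card F = q ^ 2) (hq : 3 ≤ q) (h5 : q ≠ 5)
    {M : Subgroup (GL (Fin 3) F)} (hM : M ≤ Cfsg.GU 3 F q ⊓ Cfsg.Geo.specialLinear (Fin 3) F)
    (hz : ∀ g ∈ Cfsg.GU 3 F q ⊓ Cfsg.Geo.specialLinear (Fin 3) F,
      (∃ r : F, (g : Matrix (Fin 3) (Fin 3) F) = r • 1) → g ∈ M)
    (hne : ¬ Cfsg.GU 3 F q ⊓ Cfsg.Geo.specialLinear (Fin 3) F ≤ M) :
    ∃ c, q ^ 3 + 1 ≤ c ∧ Nat.card M * c = q ^ 3 * (q ^ 2 - 1) * (q ^ 3 + 1) := by
  set Hs := M.comap (suIncl (F := F) (q := q)) with hHs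
  have hcenter : Subgroup.center (Cfsg.SU 3 F q) ≤ Hs := fun z hz' => by
    obtain ⟨r, hr⟩ := CfsgLib.Forms4.exists_scalar_of_mem_center hF (by norm_num) hz'
    exact hz _ (range_suIncl.le ⟨z, rfl⟩) ⟨r, hr⟩
  have hker : (QuotientGroup.mk' (Subgroup.center (Cfsg.SU 3 F q))).ker ≤ Hs := by
    rwa [QuotientGroup.ker_mk']
  have hne' : Hs.map (QuotientGroup.mk' (Subgroup.center (Cfsg.SU 3 F q))) ≠ ⊤ := fun h => hne fun g hg => by
    rw [← range_suIncl] at hg
    obtain ⟨x, rfl⟩ := hg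
    have hx : x ∈ (Hs.map (QuotientGroup.mk' (Subgroup.center (Cfsg.SU 3 F q)))).comap
        (QuotientGroup.mk' (Subgroup.center (Cfsg.SU 3 F q))) := by
      rw [h]; exact Subgroup.mem_top _
    rw [Subgroup.comap_map_eq_self hker] at hx
    exact hx
  have hidx := MinDegree.UThreeIndex.le_index hF hq h5 _ hne'
  rw [Subgroup.index_map_eq Hs (QuotientGroup.mk'_surjective _) hker] at hidx
  have hcard : Nat.card Hs = Nat.card M := by
    rw [Nat.card_congr (Hs.equivMapOfInjective _ suIncl_injective).toEquiv, hHs,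
      Subgroup.map_comap_eq_self (hM.trans range_suIncl.ge)]
  refine ⟨Hs.index, hidx, ?_⟩
  rw [← hcard, Subgroup.card_mul_index, ← card_su hF, ← range_suIncl,
    ← Nat.card_congr (MonoidHom.ofInjective suIncl_injective).toEquiv]

end CfsgLib.SUThree
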