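import Cfsg.Agent.SUThree.SubfieldLine
import Cfsg.Agent.SLThree.Hessian.NormalSub

/-!
# The rational subgroup over the field of four elements

When the rational scalars form the field of order four and all root scalars are rational, the transvection
`cent` is isolated, so by `Z*` and odd order solvability the overgroup normalises the Heisenberg group, and
what normalises it is rational up to a scalar.
-/

set_option autoImplicit false
set_option linter.unusedSectionVars false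

namespace CfsgLib.SUThree.SubOdd

open Matrix Cfsg.Geo CfsgLib.MaxSub CfsgLib.FormSubfield CfsgLib.SLThree.Hessian

variable {F : Type*} [Field F] [Fintype F]
variable {F₀ : Subfield F} {σ : F ≃+* F} {c₀ : F} {f : (Fin 3 → F) → (Fin 3 → F) → F}

/-- `M` consists of isometries and contains the rational ones of determinant one. -/
structure Over (F₀ : Subfield F) (f : (Fin 3 → F) → (Fin 3 → F) → F) (M : Subgroup (GL (Fin 3) F)) :
    Prop where
  lower : ∀ g : GL (Fin 3) F, Iso f g → g ∈ specialLinear (Fin 3) F →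
    RatMat F₀ (g : Matrix (Fin 3) (Fin 3) F) → g ∈ M
  iso : ∀ g ∈ M, Iso f g

/-- The isolated case, in any characteristic other than three. -/
theorem normalizes_of_isolated (o : Omega F) {M : Subgroup (GL (Fin 3) F)}
    (hclock : clock o ∈ M) (hshift : shift F ∈ M) (hfour : four o ∈ M)
    (hiso : ∀ r ∈ M, r * r = 1 → cent * r = r * cent → r = 1 ∨ r = cent) :
    M ≤ subgroupNormalizer (heis o) := by
  classical
  haveI : Fact (Nat.Prime 2) := ⟨Nat.prime_two⟩
  have hcent : (cent : GL (Fin 3) F) ∈ M := four_sq o ▸ M.mul_mem hfour hfour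
  set u : M := ⟨cent, hcent⟩ with hu'
  have hu2 : u ^ 2 = 1 := by rw [pow_two]; exact Subtype.ext cent_mul_self
  have hu1 : u ≠ 1 := fun h => by
    have e : (cent : GL (Fin 3) F).1 = (1 : GL (Fin 3) F).1 := congrArg (fun x : M => (x : GL (Fin 3) F).1) h
    have := congrFun (congrFun e 1) 1
    simp [cent] at this
  have hou : orderOf u = 2 := orderOf_eq_prime hu2 hu1
  have hiso' : ∀ t : M, t * t = 1 → u * t = t * u → t = 1 ∨ t = u := fun t ht htu =>
    (hiso t t.2 (congrArg Subtype.val ht) (congrArg Subtype.val htu)).imp Subtype.ext Subtype.ext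
  have hpz : IsPGroup 2 (Subgroup.zpowers u) := IsPGroup.of_card (n := 1) (by rw [Nat.card_zpowers, hou, pow_one])
  obtain ⟨P, hP⟩ := hpz.exists_le_sylow
  have huP : u ∈ P := hP (Subgroup.mem_zpowers u)
  have hcentral : ∀ v ∈ P, v * u = u * v := by
    haveI : Nontrivial P := ⟨⟨⟨u, huP⟩, 1, fun h => hu1 (congrArg Subtype.val h)⟩⟩
    haveI := P.isPGroup'.center_nontrivial
    have hdvd : 2 ∣ Nat.card (Subgroup.center P) := by
      obtain ⟨n, hn⟩ := IsPGroup.iff_card.1 (P.isPGroup'.to_subgroup (Subgroup.center P))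
      rw [hn]
      refine dvd_pow_self 2 fun h0 => ?_
      rw [h0, pow_zero] at hn
      exact absurd hn (Finite.one_lt_card (α := Subgroup.center P)).ne'
    obtain ⟨t, ht⟩ := exists_prime_orderOf_dvd_card' 2 hdvd
    have htt : t * t = 1 := by have := pow_orderOf_eq_one t; rwa [ht, pow_two] at this
    have htu : ((t : P) : M) = u := by
      refine (hiso' _ (congrArg (fun z : Subgroup.center P => ((z : P) : M)) htt)
        (congrArg Subtype.val (Subgroup.mem_center_iff.1 t.2 ⟨u, huP⟩))).resolve_left fun h => ?_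
      rw [show t = 1 from Subtype.ext (Subtype.ext h), orderOf_one] at ht
      norm_num at ht
    intro v hv
    rw [← htu]
    exact congrArg Subtype.val (Subgroup.mem_center_iff.1 t.2 ⟨v, hv⟩)
  obtain ⟨N, hNn, hNodd, hN⟩ := Cfsg.Agent.S0215.result P u hou huP fun g hg => by
    refine (hiso' _ ?_ (hcentral _ hg).symm).resolve_left fun h => hu1 ?_
    · rw [← pow_two, conj_pow, hu2]; group
    · exact conj_eq_one_iff.1 h
  have hui : u⁻¹ = u := inv_eq_of_mul_eq_one_right (by rw [← pow_two, hu2])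
  have hin : ∀ (g : GL (Fin 3) F) (hg : g ∈ M), g ^ 3 = 1 → cent * g * cent = g⁻¹ → (⟨g, hg⟩ : M) ∈ N := by
    intro g hg hg3 hinv
    have h := hN ⟨g, hg⟩
    rw [hui] at h
    have hsq : (⟨g, hg⟩ : M) = (u * ⟨g, hg⟩ * u) * (⟨g, hg⟩ : M)⁻¹ := Subtype.ext (by
      show g = cent * g * cent * g⁻¹
      rw [hinv, ← _root_.mul_inv_rev, eq_inv_iff_mul_eq_one, ← pow_two, ← pow_succ', hg3])
    rw [hsq]
    exact h
  haveI : Group.IsSolvable N := Cfsg.Agent.S0205.result hNodd
  set ι := M.subtype.comp N.subtype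
  set Γ : ℕ → Subgroup (GL (Fin 3) F) := fun n => (derivedSeries N n).map ι with hΓ
  have hsucc : ∀ n, Γ (n + 1) = ⁅Γ n, Γ n⁆ := fun n => by
    simp only [hΓ, derivedSeries_succ, Subgroup.map_commutator]
  have hnorm : ∀ n, ∀ g ∈ M, (Γ n).map (MulAut.conj g).toMonoidHom ≤ Γ n := by
    intro n
    induction n with
    | zero =>
      rintro g hg _ ⟨_, ⟨x, -, rfl⟩, rfl⟩
      exact ⟨⟨(⟨g, hg⟩ : M) * x * (⟨g, hg⟩ : M)⁻¹, hNn.conj_mem _ x.2 _⟩, Subgroup.mem_top _, rfl⟩
    | succ n ih =>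
      intro g hg
      rw [hsucc, Subgroup.map_commutator]
      exact Subgroup.commutator_mono (ih g hg) (ih g hg)
  obtain ⟨n, hn⟩ : ∃ n, ∀ x ∈ Γ n, pr x = 1 := by
    obtain ⟨n, hn⟩ := (Group.isSolvable_def N).1 inferInstance
    refine ⟨n, fun x hx => ?_⟩
    simp only [hΓ, hn, Subgroup.map_bot, Subgroup.mem_bot] at hx
    rw [hx, map_one]
  have h0 : ¬ ∀ x ∈ Γ 0, pr x = 1 := fun h => by
    obtain ⟨c, hc⟩ := pr_eq_one.1 (h (clock o)
      ⟨⟨⟨clock o, hclock⟩, hin _ hclock (clock_pow_three o) (cent_conj_clock o)⟩, Subgroup.mem_top _, rfl⟩)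
    have e0 := congrFun (congrFun hc 0) 0
    have e1 := congrFun (congrFun hc 1) 1
    simp [clock] at e0 e1
    exact o.ne_one (e1.trans e0.symm)
  have hex : ∃ n, ∀ x ∈ Γ n, pr x = 1 := ⟨n, hn⟩
  obtain ⟨m, hm⟩ : ∃ m, Nat.find hex = m + 1 :=
    Nat.exists_eq_succ_of_ne_zero fun h => h0 (h ▸ Nat.find_spec hex)
  have hmns := Nat.find_min hex (show m < Nat.find hex by omega)
  push Not at hmns
  obtain ⟨x₀, hx₀, hns⟩ := hmns
  refine le_normalizer_of_derived o hclock hshift hfour (D := Γ m)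
    (fun g hg x hx => hnorm m g hg ⟨x, hx, rfl⟩) hx₀ hns fun x hx y hy => ?_
  have h := Nat.find_spec hex
  rw [hm, hsucc] at h
  have h' := h _ (Subgroup.commutator_mem_commutator hx hy)
  rw [map_commutatorElement] at h'
  exact commutatorElement_eq_one_iff_mul_comm.1 h'

/-- What normalises the rational Heisenberg group is rational up to a scalar. -/
theorem rat_of_normalizes (o : Omega F) (hw : o.w ∈ F₀) {g : GL (Fin 3) F}
    (hg : g ∈ subgroupNormalizer (heis o)) :
    g ∈ subfieldSubgroup F₀ (1 : GL (Fin 3) F) := by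
  classical
  have hw2 : o.w ^ 2 ∈ F₀ := F₀.pow_mem hw 2
  have hrat : ∀ X ∈ heis o, RatMat F₀ (X : Matrix (Fin 3) (Fin 3) F) := by
    have h1 : ∀ X ∈ heis o, RatMat F₀ (X : Matrix (Fin 3) (Fin 3) F) ∧
        RatMat F₀ ((X⁻¹ : GL (Fin 3) F) : Matrix (Fin 3) (Fin 3) F) := by
      intro X hX
      induction hX using Subgroup.closure_induction with
      | mem Y hY =>
        rcases hY with rfl | rfl
        · constructor <;> intro i j
          · show (!![1, 0, 0; 0, o.w, 0; 0, 0, o.w ^ 2] : Matrix (Fin 3) (Fin 3) F) i j ∈ F₀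
            fin_cases i <;> fin_cases j <;> simp [hw, hw2, F₀.one_mem, F₀.zero_mem]
          · show (!![1, 0, 0; 0, o.w ^ 2, 0; 0, 0, o.w] : Matrix (Fin 3) (Fin 3) F) i j ∈ F₀
            fin_cases i <;> fin_cases j <;> simp [hw, hw2, F₀.one_mem, F₀.zero_mem]
        · constructor <;> intro i j
          · show (!![0, 0, 1; 1, 0, 0; 0, 1, 0] : Matrix (Fin 3) (Fin 3) F) i j ∈ F₀
            fin_cases i <;> fin_cases j <;> simp [F₀.one_mem, F₀.zero_mem]
          · show (!![0, 1, 0; 0, 0, 1; 1, 0, 0] : Matrix (Fin 3) (Fin 3) F) i j ∈ F₀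
            fin_cases i <;> fin_cases j <;> simp [F₀.one_mem, F₀.zero_mem]
      | one => exact ⟨by rw [Units.val_one]; exact ratMat_one F₀, by rw [inv_one, Units.val_one]; exact ratMat_one F₀⟩
      | mul A B _ _ hA hB =>
        exact ⟨by rw [Units.val_mul]; exact hA.1.mul hB.1,
          by rw [_root_.mul_inv_rev, Units.val_mul]; exact hB.2.mul hA.2⟩
      | inv A _ hA => exact ⟨hA.2, by rw [inv_inv]; exact hA.1⟩
    exact fun X hX => (h1 X hX).1
  obtain ⟨i₀, j₀, hne⟩ : ∃ i j, (g : Matrix (Fin 3) (Fin 3) F) i j ≠ 0 := by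
    by_contra h
    push Not at h
    exact g.ne_zero (Matrix.ext h)
  haveI : Module.Finite F₀ F := Module.Finite.of_finite
  let b := Module.Free.chooseBasis F₀ F
  obtain ⟨l, hl⟩ : ∃ l, b.coord l ((g : Matrix (Fin 3) (Fin 3) F) i₀ j₀) ≠ 0 := by
    by_contra h
    push Not at h
    exact hne (b.ext_elem fun l => by simpa [Module.Basis.coord_apply] using h l)
  set φ := b.coord l
  set A : Matrix (Fin 3) (Fin 3) F := Matrix.of fun i j => ((φ ((g : Matrix (Fin 3) (Fin 3) F) i j) : F₀) : F)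
    with hA
  have hint : ∀ X ∈ heis o, A * (X : Matrix (Fin 3) (Fin 3) F) =
      ((g * X * g⁻¹ : GL (Fin 3) F) : Matrix (Fin 3) (Fin 3) F) * A := by
    intro X hX
    set X' := g * X * g⁻¹
    have hX' : X' ∈ heis o := (Subgroup.mem_normalizer_iff.1 hg X).1 hX
    have e : (g : Matrix (Fin 3) (Fin 3) F) * (X : Matrix (Fin 3) (Fin 3) F) =
        (X' : Matrix (Fin 3) (Fin 3) F) * g := by
      rw [← Units.val_mul, ← Units.val_mul]; congr 1; simp [X', mul_assoc]
    have hsm : ∀ (x y : F), x ∈ F₀ → ((φ (x * y) : F₀) : F) = x * ((φ y : F₀) : F) := fun x y hx => by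
      rw [show x * y = (⟨x, hx⟩ : F₀) • y from rfl, map_smul, smul_eq_mul, Subfield.coe_mul]
    ext i j
    have e' := congrArg (fun z : F => ((φ z : F₀) : F)) (congrFun (congrFun e i) j)
    simp only [Matrix.mul_apply, Fin.sum_univ_three, map_add, Subfield.coe_add] at e'
    rw [mul_comm ((g : Matrix (Fin 3) (Fin 3) F) i 0), mul_comm ((g : Matrix (Fin 3) (Fin 3) F) i 1),
      mul_comm ((g : Matrix (Fin 3) (Fin 3) F) i 2), hsm _ _ (hrat X hX 0 j), hsm _ _ (hrat X hX 1 j),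
      hsm _ _ (hrat X hX 2 j), hsm _ _ (hrat X' hX' i 0), hsm _ _ (hrat X' hX' i 1),
      hsm _ _ (hrat X' hX' i 2)] at e'
    simp only [hA, Matrix.mul_apply, Fin.sum_univ_three, Matrix.of_apply]
    linear_combination e'
  set B := ((g⁻¹ : GL (Fin 3) F) : Matrix (Fin 3) (Fin 3) F) * A with hB
  have hcomm : ∀ X ∈ heis o, B * (X : Matrix (Fin 3) (Fin 3) F) = (X : Matrix (Fin 3) (Fin 3) F) * B := by
    intro X hX
    rw [hB, mul_assoc, hint X hX, ← mul_assoc, ← mul_assoc, ← Units.val_mul, ← Units.val_mul]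
    congr 2
    group
  have hC := hcomm _ (clock_mem o)
  have hS := hcomm _ (shift_mem o)
  rw [show (clock o : Matrix (Fin 3) (Fin 3) F) = !![1, 0, 0; 0, o.w, 0; 0, 0, o.w ^ 2] from rfl] at hC
  rw [show (shift F : Matrix (Fin 3) (Fin 3) F) = !![0, 0, 1; 1, 0, 0; 0, 1, 0] from rfl] at hS
  have ent := fun i j => congrFun (congrFun hC i) j
  have ent' := fun i j => congrFun (congrFun hS i) j
  have h1 : o.w - 1 ≠ 0 := sub_ne_zero.2 o.ne_one
  have h2 : o.w ^ 2 - 1 ≠ 0 := fun e => o.three (by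
    linear_combination (o.w - 1) * e + (2 - o.w) * o.sum)
  have h3 : o.w ^ 2 - o.w ≠ 0 := fun e => mul_ne_zero o.ne_zero h1 (by linear_combination e)
  have c01 : B 0 1 = 0 := (mul_eq_zero.1 (show (o.w - 1) * B 0 1 = 0 by
    have := ent 0 1; simp [Matrix.mul_apply, Fin.sum_univ_three] at this; linear_combination this)).resolve_left h1
  have c10 : B 1 0 = 0 := (mul_eq_zero.1 (show (o.w - 1) * B 1 0 = 0 by
    have := ent 1 0; simp [Matrix.mul_apply, Fin.sum_univ_three] at this; linear_combination -this)).resolve_left h1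
  have c02 : B 0 2 = 0 := (mul_eq_zero.1 (show (o.w ^ 2 - 1) * B 0 2 = 0 by
    have := ent 0 2; simp [Matrix.mul_apply, Fin.sum_univ_three] at this; linear_combination this)).resolve_left h2
  have c20 : B 2 0 = 0 := (mul_eq_zero.1 (show (o.w ^ 2 - 1) * B 2 0 = 0 by
    have := ent 2 0; simp [Matrix.mul_apply, Fin.sum_univ_three] at this; linear_combination -this)).resolve_left h2
  have c12 : B 1 2 = 0 := (mul_eq_zero.1 (show (o.w ^ 2 - o.w) * B 1 2 = 0 by
    have := ent 1 2; simp [Matrix.mul_apply, Fin.sum_univ_three] at this; linear_combination this)).resolve_left h3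
  have c21 : B 2 1 = 0 := (mul_eq_zero.1 (show (o.w ^ 2 - o.w) * B 2 1 = 0 by
    have := ent 2 1; simp [Matrix.mul_apply, Fin.sum_univ_three] at this; linear_combination -this)).resolve_left h3
  have c11 : B 1 1 = B 0 0 := by
    have := ent' 1 0; simp [Matrix.mul_apply, Fin.sum_univ_three] at this; linear_combination this
  have c22 : B 2 2 = B 1 1 := by
    have := ent' 2 1; simp [Matrix.mul_apply, Fin.sum_univ_three] at this; linear_combination this
  have hBs : B = B 0 0 • (1 : Matrix (Fin 3) (Fin 3) F) := by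
    ext i j
    fin_cases i <;> fin_cases j <;> simp [c01, c10, c02, c20, c12, c21, c11, c22]
  have hAB : A = B 0 0 • (g : Matrix (Fin 3) (Fin 3) F) := by
    have : (g : Matrix (Fin 3) (Fin 3) F) * B = A := by rw [hB, Units.mul_inv_cancel_left]
    rw [← this]
    nth_rewrite 1 [hBs]
    rw [mul_smul_comm, mul_one]
  refine mem_subfieldSubgroup_one_iff.2 ⟨B 0 0, fun e => hl ?_, fun i j => ?_⟩
  · have := congrFun (congrFun hAB i₀) j₀
    rw [e, zero_smul, Matrix.zero_apply, hA, Matrix.of_apply] at this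
    exact Subtype.ext this
  · rw [← hAB, hA, Matrix.of_apply]
    exact SetLike.coe_mem _

variable {r : ℕ} (d : Data F₀ σ c₀ f r)

include d

/-- **The rational group over the field of four elements.** -/
theorem le_subfield_of_small (h2 : (2 : F) = 0) (hsmall : ∀ t ∈ F₀, σ t = t → t = 0 ∨ t = 1)
    (horth : ∀ x z, f x x = 0 → f z z = 0 → z ≠ 0 → f x z = 0 → ∃ c : F, x = c • z)
    {M : Subgroup (GL (Fin 3) F)} (hM : Over F₀ f M)
    (hC : ∀ e ∈ ratVecs (Fin 3) F₀, e ≠ 0 → f e e = 0 → ∀ c, σ c = -c → T f e c ∈ M → c ∈ F₀) :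
    M ≤ subfieldSubgroup F₀ (1 : GL (Fin 3) F) := by
  classical
  have hs := d.setting
  haveI : CharP F 2 := (CharP.charP_iff_prime_eq_zero Nat.prime_two).2 (by exact_mod_cast h2)
  obtain ⟨τ, hτ, hτσ⟩ := d.moved
  have hτ0 : τ ≠ 0 := fun e => hτσ (by rw [e, map_zero])
  have hsum : τ + σ τ = 1 := (hsmall _ (F₀.add_mem hτ (hs.sigma_mem τ hτ))
    (by rw [map_add, hs.sigma_sigma, add_comm])).resolve_left fun e => hτσ (by
      linear_combination e - τ * h2)
  have hprod : τ * σ τ = 1 := (hsmall _ (F₀.mul_mem hτ (hs.sigma_mem τ hτ))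
    (by rw [map_mul, hs.sigma_sigma, mul_comm])).resolve_left (mul_ne_zero hτ0 ((map_ne_zero σ).2 hτ0))
  let o : Omega F := ⟨τ, by linear_combination τ * hsum - hprod + τ * h2, by
    intro e; exact one_ne_zero (α := F) (by linear_combination e - h2)⟩
  obtain ⟨e, e', a, hfr⟩ := exists_frame d
  have haa : f a a = 1 := (hsmall _ (hs.rat a hfr.ra a hfr.ra) (herm' d a a)).resolve_left hfr.aa
  set b₁ := e + τ • e' with hb₁
  set b₂ := e + σ τ • e' with hb₂
  have hr₁ : b₁ ∈ ratVecs (Fin 3) F₀ := Submodule.add_mem _ hfr.re (smul_mem_ratVecs hτ hfr.re')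
  have hr₂ : b₂ ∈ ratVecs (Fin 3) F₀ :=
    Submodule.add_mem _ hfr.re (smul_mem_ratVecs (hs.sigma_mem τ hτ) hfr.re')
  have hee' := hfr.ee' d
  have hrepr : ∀ x, f x b₁ • b₁ + f x b₂ • b₂ + f x a • a = x := by
    intro x
    conv_rhs => rw [hfr.repr d x, haa, div_one]
    simp only [hb₁, hb₂, hs.sesq.add_right, hs.sesq.smul_right, hs.sigma_sigma]
    match_scalars
    · linear_combination f x e' * hsum + f x e * h2
    · linear_combination f x e * hsum + f x e' * (τ * σ τ) * h2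
    · rfl
  -- the orthonormal frame
  let Qv : Matrix (Fin 3) (Fin 3) F := (Matrix.of ![b₁, b₂, a])ᵀ
  let Qi : Matrix (Fin 3) (Fin 3) F := Matrix.of ![leftVec f b₁, leftVec f b₂, leftVec f a]
  have hQi : ∀ x, Qi *ᵥ x = ![f x b₁, f x b₂, f x a] := fun x => by
    funext i
    fin_cases i <;> exact hs.sesq.dot_leftVec _ _
  have hQv : ∀ u : Fin 3 → F, Qv *ᵥ u = u 0 • b₁ + u 1 • b₂ + u 2 • a := fun u => by
    funext i
    simp [Qv, mulVec, dotProduct, Fin.sum_univ_three]
    ring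
  have hQQ : Qv * Qi = 1 := Matrix.ext_iff_mulVec.2 fun x => by
    rw [← mulVec_mulVec, hQi, hQv, one_mulVec]
    simpa using hrepr x
  let Q : GL (Fin 3) F := ⟨Qv, Qi, hQQ, mul_eq_one_comm.1 hQQ⟩
  have hQr : RatMat F₀ Qv := fun i j => by
    fin_cases j <;> simp [Qv] <;> first | exact hr₁ i | exact hr₂ i | exact hfr.ra i
  have hQir : RatMat F₀ Qi := ratMat_of_mulVec fun x hx => by
    rw [hQi]
    intro i
    fin_cases i <;> first | exact hs.rat x hx _ hr₁ | exact hs.rat x hx _ hr₂ | exact hs.rat x hx _ hfr.ra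
  have h11 : f b₁ b₁ = 1 := by
    simp [hb₁, hs.sesq.add_left, hs.sesq.add_right, hs.sesq.smul_left, hs.sesq.smul_right, hfr.ee,
      hfr.e'e', hee', hfr.e'e]
    linear_combination hsum
  have h22 : f b₂ b₂ = 1 := by
    simp [hb₂, hs.sesq.add_left, hs.sesq.add_right, hs.sesq.smul_left, hs.sesq.smul_right, hfr.ee,
      hfr.e'e', hee', hfr.e'e, hs.sigma_sigma]
    linear_combination hsum
  have h12 : f b₁ b₂ = 0 := by
    simp [hb₁, hb₂, hs.sesq.add_left, hs.sesq.add_right, hs.sesq.smul_left, hs.sesq.smul_right, hfr.ee,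
      hfr.e'e', hee', hfr.e'e, hs.sigma_sigma]
    linear_combination τ * h2
  have h13 : f b₁ a = 0 := by
    simp [hb₁, hs.sesq.add_left, hs.sesq.smul_left, hfr.ea d, hfr.e'a d]
  have h23 : f b₂ a = 0 := by
    simp [hb₂, hs.sesq.add_left, hs.sesq.smul_left, hfr.ea d, hfr.e'a d]
  have h21 := hs.orth_symm h12
  have h31 := hs.orth_symm h13
  have h32 := hs.orth_symm h23
  have hform : ∀ u v : Fin 3 → F, f (Qv *ᵥ u) (Qv *ᵥ v) =
      u 0 * σ (v 0) + u 1 * σ (v 1) + u 2 * σ (v 2) := fun u v => by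
    rw [hQv, hQv]
    simp [hs.sesq.add_left, hs.sesq.add_right, hs.sesq.smul_left, hs.sesq.smul_right, h11, h22, h12,
      h13, h23, h21, h31, h32, haa]
  let M' : Subgroup (GL (Fin 3) F) := M.comap (MulAut.conj Q).toMonoidHom
  have hmem : ∀ x, x ∈ M' ↔ Q * x * Q⁻¹ ∈ M := fun x => Iff.rfl
  haveI : (specialLinear (Fin 3) F).Normal := MonoidHom.normal_ker _
  have hlow : ∀ x : GL (Fin 3) F, (x : Matrix (Fin 3) (Fin 3) F).det = 1 →
      RatMat F₀ (x : Matrix (Fin 3) (Fin 3) F) →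
      (∀ u v : Fin 3 → F, ((x : Matrix (Fin 3) (Fin 3) F) *ᵥ u) 0 * σ (((x : Matrix (Fin 3) (Fin 3) F) *ᵥ v) 0) +
        ((x : Matrix (Fin 3) (Fin 3) F) *ᵥ u) 1 * σ (((x : Matrix (Fin 3) (Fin 3) F) *ᵥ v) 1) +
        ((x : Matrix (Fin 3) (Fin 3) F) *ᵥ u) 2 * σ (((x : Matrix (Fin 3) (Fin 3) F) *ᵥ v) 2) =
        u 0 * σ (v 0) + u 1 * σ (v 1) + u 2 * σ (v 2)) → x ∈ M' := by
    intro x hd hr hi
    refine (hmem x).2 (hM.lower _ (fun u v => ?_) (Subgroup.Normal.conj_mem inferInstance x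
      (MonoidHom.mem_ker.2 (Units.ext (by simpa using hd))) Q) ?_)
    · have e1 : ∀ w : Fin 3 → F, ((Q * x * Q⁻¹ : GL (Fin 3) F) : Matrix (Fin 3) (Fin 3) F) *ᵥ w =
          Qv *ᵥ ((x : Matrix (Fin 3) (Fin 3) F) *ᵥ (Qi *ᵥ w)) := fun w => by
        rw [Units.val_mul, Units.val_mul, ← mulVec_mulVec, ← mulVec_mulVec]; rfl
      rw [e1, e1, hform, hi, ← hform]
      show f ((Q : Matrix (Fin 3) (Fin 3) F) *ᵥ (((Q⁻¹ : GL (Fin 3) F) : Matrix (Fin 3) (Fin 3) F) *ᵥ u))
        ((Q : Matrix (Fin 3) (Fin 3) F) *ᵥ (((Q⁻¹ : GL (Fin 3) F) : Matrix (Fin 3) (Fin 3) F) *ᵥ v)) = f u v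
      rw [mulVec_inv_mulVec, mulVec_inv_mulVec]
    · rw [Units.val_mul, Units.val_mul]
      exact (hQr.mul hr).mul hQir
  have hσ1 : σ (τ ^ 2) = σ τ * σ τ := by rw [map_pow, sq]
  have hτ2 : τ ^ 2 ∈ F₀ := F₀.pow_mem hτ 2
  have hs1 : o.s = 1 := by show τ - τ ^ 2 = 1; linear_combination -τ * hsum + hprod
  have hclock : clock o ∈ M' := by
    refine hlow _ (det_clock o) (fun i j => ?_) fun u v => ?_
    · show (!![1, 0, 0; 0, τ, 0; 0, 0, τ ^ 2] : Matrix (Fin 3) (Fin 3) F) i j ∈ F₀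
      fin_cases i <;> fin_cases j <;> simp [hτ, hτ2, F₀.one_mem, F₀.zero_mem]
    · simp [clock, o, mulVec, dotProduct, Fin.sum_univ_three]
      linear_combination (u 1 * σ (v 1) + u 2 * σ (v 2) * (τ * σ τ + 1)) * hprod
  have hshift : shift F ∈ M' := by
    refine hlow _ det_shift (fun i j => ?_) fun u v => ?_
    · show (!![0, 0, 1; 1, 0, 0; 0, 1, 0] : Matrix (Fin 3) (Fin 3) F) i j ∈ F₀
      fin_cases i <;> fin_cases j <;> simp [F₀.one_mem, F₀.zero_mem]
    · simp [shift, mulVec, dotProduct, Fin.sum_univ_three]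
      ring
  have hfour : four o ∈ M' := by
    refine hlow _ (det_four o) (fun i j => ?_) fun u v => ?_
    · show (o.s⁻¹ • !![1, 1, 1; 1, τ, τ ^ 2; 1, τ ^ 2, τ]) i j ∈ F₀
      rw [hs1, inv_one, one_smul]
      fin_cases i <;> fin_cases j <;> simp [hτ, hτ2, F₀.one_mem]
    · simp [four, hs1, mulVec, dotProduct, Fin.sum_univ_three, o]
      have hσ : σ τ = τ ^ 2 := by linear_combination hsum - τ * hsum + hprod + (1 - τ) * h2
      grind
  have hcentM := (hmem _).1 (four_sq o ▸ M'.mul_mem hfour hfour)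
  set z : Fin 3 → F := Qv *ᵥ ![0, 1, 1] with hz
  have hzr : z ∈ ratVecs (Fin 3) F₀ := mulVec_mem_ratVecs hQr fun i => by
    fin_cases i <;> simp [F₀.one_mem, F₀.zero_mem]
  have hzz : f z z = 0 := by rw [hz, hform]; simp; linear_combination h2
  have hz0 : z ≠ 0 := fun e0 => by
    have := congrArg (fun w => f w a) e0
    rw [hz, hQv] at this
    simp [hs.sesq.add_left, hs.sesq.smul_left, hs.sesq.zero_left, h23, haa] at this
  have hcz : ∀ x, ((Q * cent * Q⁻¹ : GL (Fin 3) F) : Matrix (Fin 3) (Fin 3) F) *ᵥ x = x + f x z • z := by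
    intro x
    rw [Units.val_mul, Units.val_mul, ← mulVec_mulVec, ← mulVec_mulVec]
    show Qv *ᵥ ((cent : GL (Fin 3) F).1 *ᵥ (Qi *ᵥ x)) = _
    obtain ⟨w, rfl⟩ : ∃ w, x = Qv *ᵥ w := ⟨Qi *ᵥ x, by rw [mulVec_mulVec, hQQ, one_mulVec]⟩
    rw [mulVec_mulVec w Qi Qv, mul_eq_one_comm.1 hQQ, one_mulVec, hz, hform, ← mulVec_smul, ← mulVec_add]
    congr 1
    funext i
    fin_cases i <;> simp [cent, mulVec, dotProduct, Fin.sum_univ_three, CharTwo.neg_eq]
    · linear_combination -(w 1) * h2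
    · linear_combination -(w 2) * h2
  have hcase : ∀ R ∈ M, R * R = 1 → (Q * cent * Q⁻¹) * R = R * (Q * cent * Q⁻¹) →
      R = 1 ∨ R = Q * cent * Q⁻¹ := by
    intro R hR hRR hcomm
    refine or_iff_not_imp_left.2 fun hR1 => ?_
    have hI := hM.iso R hR
    set N : (Fin 3 → F) → (Fin 3 → F) := fun x => (R : Matrix (Fin 3) (Fin 3) F) *ᵥ x - x with hN
    have hRRx : ∀ x, (R : Matrix (Fin 3) (Fin 3) F) *ᵥ ((R : Matrix (Fin 3) (Fin 3) F) *ᵥ x) = x := fun x => by
      rw [mulVec_mulVec, ← Units.val_mul, hRR, Units.val_one, one_mulVec]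
    have hsym : ∀ x y, f (N x) y = f x (N y) := fun x y => by
      have e1 := hI x ((R : Matrix (Fin 3) (Fin 3) F) *ᵥ y)
      rw [hRRx] at e1
      simp only [hN, hs.sesq.sub_left, hs.sesq.sub_right, e1]
    have hNN : ∀ x, N (N x) = 0 := fun x => by
      simp only [hN, mulVec_sub, hRRx]
      funext i
      simp only [Pi.sub_apply, Pi.zero_apply]
      linear_combination (x i - ((R : Matrix (Fin 3) (Fin 3) F) *ᵥ x) i) * h2
    have hNC : ∀ x, f (N x) z • z = f x z • N z := fun x => by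
      have e1 := congrArg (fun g : GL (Fin 3) F => (g : Matrix (Fin 3) (Fin 3) F) *ᵥ x) hcomm
      rw [Units.val_mul (Q * cent * Q⁻¹) R, Units.val_mul R (Q * cent * Q⁻¹), ← mulVec_mulVec,
        ← mulVec_mulVec, hcz, hcz, mulVec_add, mulVec_smul] at e1
      simp only [hN, hs.sesq.sub_left, sub_smul, smul_sub]
      linear_combination (norm := module) e1
    obtain ⟨-, ⟨y₀, hy₀⟩⟩ := hs.sesq.nondegenerate z hz0
    obtain ⟨y₁, hy₁⟩ : ∃ y₁ : Fin 3 → F, y₁ = (σ (f z y₀))⁻¹ • y₀ := ⟨_, rfl⟩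
    have hzy₁ : f z y₁ = 1 := by
      rw [hy₁, hs.sesq.smul_right, map_inv₀, hs.sigma_sigma, inv_mul_cancel₀ hy₀]
    have hy₁z : f y₁ z = 1 := by rw [← herm' d z y₁, hzy₁, map_one]
    have hNz : N z = 0 := by
      have e1 := hNC y₁
      rw [hy₁z, one_smul] at e1
      have e2 := hNN z
      rw [← e1] at e2 ⊢
      simp only [hN, mulVec_smul, ← smul_sub] at e2
      rw [show (R : Matrix (Fin 3) (Fin 3) F) *ᵥ z - z = N z from rfl, ← e1, smul_smul, smul_eq_zero] at e2
      rcases e2 with e2 | e2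
      · rw [mul_self_eq_zero.1 e2, zero_smul]
      · exact absurd e2 hz0
    have hperp : ∀ x, ∃ c : F, N x = c • z := fun x => by
      refine horth _ _ ?_ hzz hz0 ?_
      · rw [hsym, hNN, hs.sesq.zero_right]
      · rw [hsym, hNz, hs.sesq.zero_right]
    choose ψ hψ using hperp
    set c := σ (ψ y₁) with hc
    have hψx : ∀ x, ψ x = c * f x z := fun x => by
      have e1 := hsym x y₁
      rw [hψ, hψ, hs.sesq.smul_left, hs.sesq.smul_right, hzy₁, mul_one] at e1
      exact e1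
    have hcc : σ c = -c := by
      have e1 := hψx y₁
      rw [hy₁z, mul_one] at e1
      rw [hc, hs.sigma_sigma, ← hc, e1, CharTwo.neg_eq]
    have hRT : R = T f z c := ext_mulVec fun x => by
      rw [hs.T_mulVec hzz, ← hψx, ← hψ]
      simp only [hN, add_sub_cancel]
    have hcF : c ∈ F₀ := hC z hzr hz0 hzz c hcc (hRT ▸ hR)
    rcases hsmall c hcF (by rw [hcc, CharTwo.neg_eq]) with h0 | h0
    · exact absurd (by rw [hRT, h0, T, zero_smul, tv_zero_left]) hR1
    · refine ext_mulVec fun x => ?_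
      rw [hRT, hs.T_mulVec hzz, hcz, h0, one_mul]
  have hnorm := normalizes_of_isolated o (M := M') hclock hshift hfour fun R hR hRR hcomm => by
    rcases hcase _ ((hmem R).1 hR) (by rw [conj_mul, hRR]; group)
      (by rw [conj_mul, conj_mul, hcomm]) with h | h
    · exact Or.inl (conj_eq_one_iff.1 h)
    · exact Or.inr ((MulAut.conj Q).injective h)
  intro g hg
  have hg' : Q⁻¹ * g * Q ∈ M' := (hmem _).2 (by rwa [show Q * (Q⁻¹ * g * Q) * Q⁻¹ = g by group])
  obtain ⟨k, hk, hkr⟩ := mem_subfieldSubgroup_one_iff.1 (rat_of_normalizes o hτ (hnorm hg'))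
  refine mem_subfieldSubgroup_one_iff.2 ⟨k, hk, ?_⟩
  have e1 : k • (g : Matrix (Fin 3) (Fin 3) F) =
      Qv * (k • ((Q⁻¹ * g * Q : GL (Fin 3) F) : Matrix (Fin 3) (Fin 3) F)) * Qi := by
    rw [mul_smul_comm, smul_mul_assoc]
    congr 1
    show _ = ((Q * (Q⁻¹ * g * Q) * Q⁻¹ : GL (Fin 3) F) : Matrix (Fin 3) (Fin 3) F)
    congr 1
    group
  rw [e1]
  exact (hQr.mul hkr).mul hQir

end CfsgLib.SUThree.SubOdd
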