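import Cfsg.Agent.SUThree.SubfieldChord
import Cfsg.Agent.SUThree.SubfieldTwo
import Cfsg.Agent.SUThree.Basic
import Cfsg.Agent.FormSubfield.Maximal

/-!
# Subfield groups of odd prime index are maximal in `SU₃`
-/

set_option autoImplicit false
set_option linter.unusedSectionVars false

namespace CfsgLib.SUThree.SubOdd

open Matrix Cfsg.Geo CfsgLib.MaxSub CfsgLib.FormSubfield

variable {F : Type*} [Field F] [Fintype F]
variable {F₀ : Subfield F} {σ : F ≃+* F} {c₀ : F} {f : (Fin 3 → F) → (Fin 3 → F) → F}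
variable {r : ℕ} (d : Data F₀ σ c₀ f r) {M : Subgroup (GL (Fin 3) F)} (hM : Over F₀ f M)

include d hM

/-- Rational transvections lie in `M`. -/
theorem T_mem_rat {e : Fin 3 → F} (he : e ∈ ratVecs (Fin 3) F₀) (hee : f e e = 0) {c : F} (hc : c ∈ F₀)
    (hcs : σ c = -c) : T f e c ∈ M :=
  hM.lower _ (d.setting.T_iso hee (by rw [one_mul, hcs, add_neg_cancel]))
    (T_mem_specialLinear f e c) (d.setting.ratMat_T he hee hc)

theorem upper_rat {e : Fin 3 → F} (he : e ∈ ratVecs (Fin 3) F₀) (hee : f e e = 0) {x : F} (hx : x ∈ F₀)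
    (hxσ : σ x = x) : Upper σ c₀ f M e x :=
  ⟨hxσ, T_mem_rat d hM he hee (F₀.div_mem hx d.c₀_mem)
    (by rw [map_div₀, hxσ, sigma_c₀ d, div_neg])⟩

/-- An irrational root scalar gives a full root group. -/
theorem full_of_irrational {e : Fin 3 → F} (he : e ∈ ratVecs (Fin 3) F₀) (he0 : e ≠ 0) (hee : f e e = 0)
    {c : F} (hc : σ c = -c) (hT : T f e c ∈ M) (hcF : c ∉ F₀) {b : F} (hb : σ b = -b) :
    T f e b ∈ M := by
  have hs := d.setting
  obtain ⟨e₀, e₀', a, hfr⟩ := exists_frame d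
  obtain ⟨z, hz, hzz, hze⟩ : ∃ z ∈ ratVecs (Fin 3) F₀, f z z = 0 ∧ f z e ≠ 0 := by
    by_contra hcon
    push Not at hcon
    have h1 := hs.orth_symm (hcon e₀ hfr.re hfr.ee)
    have h2 := hs.orth_symm (hcon e₀' hfr.re' hfr.e'e')
    have h3 := hfr.repr d e
    rw [h1, h2, zero_smul, zero_smul, zero_add, zero_add] at h3
    have h4 : f e a = 0 := by
      by_contra h4
      apply mul_ne_zero (mul_ne_zero (div_ne_zero h4 hfr.aa) ((map_ne_zero σ).2 (div_ne_zero h4 hfr.aa))) hfr.aa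
      rw [← hee]
      conv_rhs => rw [h3]
      simp only [hs.sesq.smul_left, hs.sesq.smul_right]
      ring
    rw [h4, zero_div, zero_smul] at h3
    exact he0 h3
  set e' := (f z e)⁻¹ • z with he'
  have hre' : e' ∈ ratVecs (Fin 3) F₀ := smul_mem_ratVecs (F₀.inv_mem (hs.rat z hz e he)) hz
  have he'e' : f e' e' = 0 := by rw [he', hs.sesq.smul_left, hs.sesq.smul_right, hzz, mul_zero, mul_zero]
  have he'e : f e' e = 1 := by rw [he', hs.sesq.smul_left, inv_mul_cancel₀ hze]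
  have hone := upper_rat d hM he hee F₀.one_mem (map_one σ)
  set μ := c * c₀ with hμ
  have hμσ : σ μ = μ := by rw [hμ, map_mul, hc, sigma_c₀ d]; ring
  have hμF : μ ∉ F₀ := fun h => hcF (by
    have := F₀.div_mem h d.c₀_mem
    rwa [hμ, mul_div_cancel_right₀ _ hs.c₀_ne] at this)
  have hμU : Upper σ c₀ f M e μ := ⟨hμσ, by rw [hμ, mul_div_cancel_right₀ _ hs.c₀_ne]; exact hT⟩
  obtain ⟨hmul, -⟩ := chord d hee he'e' he'e hone hμU
    (fun n h => hμF (h ▸ natCast_mem F₀ n)) (ν₀ := 1)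
    ⟨map_one σ, by rw [mul_one]; exact T_mem_rat d hM hre' he'e' d.c₀_mem (sigma_c₀ d)⟩ one_ne_zero
  obtain ⟨τ, hτ, hτσ⟩ := d.moved
  have hd : τ - σ τ ≠ 0 := sub_ne_zero.2 (Ne.symm hτσ)
  let U := Upper σ c₀ f M e
  have hadd : ∀ {x y : F}, U x → U y → U (x + y) := fun {x y} hx hy => ⟨by rw [map_add, hx.1, hy.1], by
    rw [add_div, ← hs.T_add hee]; exact M.mul_mem hx.2 hy.2⟩
  have hneg : ∀ {x : F}, U x → U (-x) := fun {x} hx => ⟨by rw [map_neg, hx.1], by
    have h1 : (T f e (x / c₀))⁻¹ = T f e (-x / c₀) := inv_eq_of_mul_eq_one_right (by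
      rw [hs.T_add hee, neg_div, add_neg_cancel, T, zero_smul, tv_zero_left])
    rw [← h1]; exact M.inv_mem hx.2⟩
  have h0 : U 0 := upper_rat d hM he hee F₀.zero_mem (map_zero σ)
  have hp : U (τ + σ τ) := upper_rat d hM he hee (F₀.add_mem hτ (hs.sigma_mem _ hτ))
    (by rw [map_add, hs.sigma_sigma, add_comm])
  have hq : U (-(τ * σ τ)) := upper_rat d hM he hee (F₀.neg_mem (F₀.mul_mem hτ (hs.sigma_mem _ hτ)))
    (by rw [map_neg, map_mul, hs.sigma_sigma, mul_comm])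
  let R : Subring F :=
    { carrier := {x | ∃ u, U u ∧ ∃ v, U v ∧ x = u + τ * v}
      mul_mem' := by
        rintro _ _ ⟨u, hu, v, hv, rfl⟩ ⟨u', hu', v', hv', rfl⟩
        exact ⟨u * u' + -(τ * σ τ) * (v * v'), hadd (hmul _ _ hu hu') (hmul _ _ hq (hmul _ _ hv hv')),
          u * v' + v * u' + (τ + σ τ) * (v * v'),
          hadd (hadd (hmul _ _ hu hv') (hmul _ _ hv hu')) (hmul _ _ hp (hmul _ _ hv hv')), by ring⟩
      one_mem' := ⟨1, hone, 0, h0, by ring⟩
      add_mem' := by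
        rintro _ _ ⟨u, hu, v, hv, rfl⟩ ⟨u', hu', v', hv', rfl⟩
        exact ⟨_, hadd hu hu', _, hadd hv hv', by ring⟩
      zero_mem' := ⟨0, h0, 0, h0, by ring⟩
      neg_mem' := by
        rintro _ ⟨u, hu, v, hv, rfl⟩
        exact ⟨_, hneg hu, _, hneg hv, by ring⟩ }
  have hR : ∀ x : F, ∃ u, U u ∧ ∃ v, U v ∧ x = u + τ * v := by
    intro x
    refine subring_eq_top_of_prime d.prime d.card R (fun y hy => ?_)
      (show μ ∈ R from ⟨μ, hμU, 0, h0, by ring⟩) hμF x
    have hd' : σ τ - τ ≠ 0 := sub_ne_zero.2 hτσ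
    have hv : σ ((y - σ y) / (τ - σ τ)) = (y - σ y) / (τ - σ τ) := by
      rw [map_div₀, map_sub, map_sub, hs.sigma_sigma, hs.sigma_sigma, div_eq_div_iff hd' hd]
      ring
    have hvF : (y - σ y) / (τ - σ τ) ∈ F₀ := F₀.div_mem
      (F₀.sub_mem hy (hs.sigma_mem _ hy)) (F₀.sub_mem hτ (hs.sigma_mem _ hτ))
    refine ⟨y - τ * ((y - σ y) / (τ - σ τ)), upper_rat d hM he hee
      (F₀.sub_mem hy (F₀.mul_mem hτ hvF)) ?_, _, upper_rat d hM he hee hvF hv, by ring⟩
    rw [map_sub, map_mul, hv]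
    field_simp
    ring
  obtain ⟨u, hu, v, hv, huv⟩ := hR (b * c₀)
  have hbc : σ (b * c₀) = b * c₀ := by rw [map_mul, hb, sigma_c₀ d]; ring
  rw [huv, map_add, map_mul, hu.1, hv.1] at hbc
  have hv0 : v = 0 := (mul_eq_zero.1 (show (τ - σ τ) * v = 0 by linear_combination -hbc)).resolve_left hd
  rw [hv0, mul_zero, add_zero] at huv
  have h5 := hu.2
  rw [← huv, mul_div_cancel_right₀ _ hs.c₀_ne] at h5
  exact h5

variable (horth : ∀ x z, f x x = 0 → f z z = 0 → z ≠ 0 → f x z = 0 → ∃ c : F, x = c • z)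

include horth

/-- **The dichotomy.** -/
theorem le_or_full :
    M ≤ subfieldSubgroup F₀ (1 : GL (Fin 3) F) ∨
      ∃ e, e ≠ 0 ∧ f e e = 0 ∧ ∀ c, σ c = -c → T f e c ∈ M := by
  have hs := d.setting
  by_cases hC : ∀ e ∈ ratVecs (Fin 3) F₀, e ≠ 0 → f e e = 0 → ∀ c, σ c = -c → T f e c ∈ M → c ∈ F₀
  swap
  · push Not at hC
    obtain ⟨e, he, he0, hee, c, hc, hT, hcF⟩ := hC
    exact Or.inr ⟨e, he0, hee, fun b hb => full_of_irrational d hM he he0 hee hc hT hcF hb⟩
  left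
  by_cases hsmall : (2 : F) = 0 ∧ ∀ t ∈ F₀, σ t = t → t = 0 ∨ t = 1
  · exact le_subfield_of_small d hsmall.1 hsmall.2 horth hM hC
  intro g hg
  obtain ⟨e, e', a, hfr⟩ := exists_frame d
  have hI := hM.iso g hg
  refine mem_of_lines d hfr hI fun x hx hx0 hxx => ?_
  set y := (g : Matrix (Fin 3) (Fin 3) F) *ᵥ x with hy
  have hyy : f y y = 0 := by rw [hy, hI, hxx]
  have hyT : ∀ c ∈ F₀, σ c = -c → T f y c ∈ M := fun c hc hcs => by
    rw [hy, ← hs.conj_T hI hxx]
    exact M.mul_mem (M.mul_mem hg (T_mem_rat d hM hx hxx hc hcs)) (M.inv_mem hg)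
  refine line_of_norms d hfr hyy fun z hz hzz => ?_
  by_cases hl : f y z = 0
  · rw [hl, zero_mul]; exact F₀.zero_mem
  have hz0 : z ≠ 0 := fun e0 => hl (by rw [e0, hs.sesq.zero_right])
  have hzy : f z y = σ (f y z) := (herm' d y z).symm
  set l := f y z * σ (f y z) with hl'
  have hlσ : σ l = l := by rw [hl', map_mul, hs.sigma_sigma, mul_comm]
  have hl0 : l ≠ 0 := mul_ne_zero hl ((map_ne_zero σ).2 hl)
  by_cases h2 : (2 : F) = 0
  · -- characteristic two
    have hbig : ∃ t ∈ F₀, σ t = t ∧ t ≠ 0 ∧ t ≠ 1 := by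
      by_contra h
      push Not at h
      exact hsmall ⟨h2, fun t ht htσ => or_iff_not_imp_left.2 (h t ht htσ)⟩
    obtain ⟨t, ht, htσ, ht0, ht1⟩ := hbig
    set y' := (f y z)⁻¹ • y with hy'
    have hy'y' : f y' y' = 0 := by rw [hy', hs.sesq.smul_left, hs.sesq.smul_right, hyy, mul_zero, mul_zero]
    have hy'z : f y' z = 1 := by rw [hy', hs.sesq.smul_left, inv_mul_cancel₀ hl]
    have hlow : ∀ s ∈ F₀, σ s = s → Lower σ c₀ f M y' (l * s) := fun s hs' hsσ => by
      refine ⟨by rw [map_mul, hlσ, hsσ], ?_⟩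
      rw [hy', hs.T_smul hyy]
      have e1 : c₀ * (l * s) * ((f y z)⁻¹ * σ ((f y z)⁻¹)) = c₀ * s := by
        rw [map_inv₀, hl']
        have : σ (f y z) ≠ 0 := (map_ne_zero σ).2 hl
        field_simp
      rw [e1]
      exact hyT _ (F₀.mul_mem d.c₀_mem hs') (by rw [map_mul, hsσ, sigma_c₀ d, neg_mul])
    have htn : ∀ n : ℕ, t ≠ n := by
      intro n hn
      rw [← Nat.mod_add_div n 2, Nat.cast_add, Nat.cast_mul, Nat.cast_ofNat, h2, zero_mul, add_zero] at hn
      rcases Nat.mod_two_eq_zero_or_one n with e | e <;> rw [e] at hn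
      · exact ht0 (by simpa using hn)
      · exact ht1 (by simpa using hn)
    obtain ⟨-, hdiff⟩ := chord d hzz hy'y' hy'z (upper_rat d hM hz hzz F₀.one_mem (map_one σ))
      (upper_rat d hM hz hzz ht htσ) htn (ν₀ := l * 1) (hlow 1 F₀.one_mem (map_one σ))
      (by rwa [mul_one])
    have h3 := hdiff (l * 1) (l * t) (hlow 1 F₀.one_mem (map_one σ)) (by rwa [mul_one])
      (hlow t ht htσ) (mul_ne_zero hl0 ht0)
    have h4 := hC z hz hz0 hzz _ (by rw [map_div₀, h3.1, sigma_c₀ d, div_neg]) h3.2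
    have h5 := F₀.mul_mem h4 d.c₀_mem
    rw [div_mul_cancel₀ _ hs.c₀_ne] at h5
    have ht1' : t - 1 ≠ 0 := sub_ne_zero.2 ht1
    have h6 := F₀.inv_mem (F₀.div_mem (F₀.mul_mem h5 ht) (F₀.sub_mem ht F₀.one_mem))
    convert h6 using 1
    field_simp
  · -- odd characteristic
    have hz' : T f z c₀ ∈ M := T_mem_rat d hM hz hzz d.c₀_mem (sigma_c₀ d)
    have hy' : T f y c₀ ∈ M := hyT _ d.c₀_mem (sigma_c₀ d)
    have hlam : leftVec f z ⬝ᵥ (c₀ • y) * (leftVec f y ⬝ᵥ (c₀ • z)) = c₀ * c₀ * l := by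
      rw [dotProduct_smul, dotProduct_smul, hs.sesq.dot_leftVec, hs.sesq.dot_leftVec, hzy, hl',
        smul_eq_mul, smul_eq_mul]
      ring
    by_contra hnot
    have hirr : leftVec f z ⬝ᵥ (c₀ • y) * (leftVec f y ⬝ᵥ (c₀ • z)) ∉ F₀ := by
      rw [hlam]
      intro h
      refine hnot ?_
      have := F₀.div_mem h (F₀.mul_mem d.c₀_mem d.c₀_mem)
      rwa [mul_div_cancel_left₀ _ (mul_ne_zero hs.c₀_ne hs.c₀_ne)] at this
    have h3 := exists_tv_irrational d.prime d.odd d.card h2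
      (by rw [dotProduct_smul, hs.sesq.dot_leftVec, hzz, smul_zero])
      (by rw [dotProduct_smul, hs.sesq.dot_leftVec, hyy, smul_zero]) hirr hz' hy'
    rw [hlam, smul_smul] at h3
    have h4 := hC z hz hz0 hzz ((c₀ * c₀ * l)⁻¹ * c₀) (by
      rw [map_mul, map_inv₀, map_mul, map_mul, hlσ, sigma_c₀ d]; ring) h3
    have h5 := F₀.inv_mem (F₀.mul_mem h4 d.c₀_mem)
    apply hnot
    convert h5 using 1
    have := hs.c₀_ne
    field_simp

omit d hM horth

/-- The setting of a rational hermitian structure of odd prime index. -/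
theorem exists_data {q : ℕ} (hb : Circle.IsBar q σ) {F₀ : Subfield F} {r : ℕ} {P : GL (Fin 3) F}
    (hr : r.Prime) (hr2 : r ≠ 2) (hcard : Fintype.card F = Nat.card F₀ ^ r)
    (hP : IsFormRationalStructure (Cfsg.hermForm 3 F q) F₀ 1 P) :
    ∃ c₀ : F, Data F₀ σ c₀ (pullForm (Cfsg.hermForm 3 F q) 1 P) r := by
  have hne := hb.ne_refl
  have hinv := hb.involutive
  have hf := isUnitaryForm_hermForm (n := 3) hne hinv hb.eq_pow
  have hh := sesqForm_of_unitary hf
  have hmem : ∀ x ∈ F₀, σ x ∈ F₀ := fun x hx => by rw [hb.eq_pow]; exact F₀.pow_mem hx q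
  obtain ⟨τ₀, hτ, hτσ⟩ : ∃ t ∈ F₀, σ t ≠ t := by
    by_contra hfix
    push Not at hfix
    exact hne (RingEquiv.ext (eq_self_of_fix hr hr2 hcard hinv hfix))
  let σ₀ : F₀ ≃+* F₀ :=
    { toFun := fun x => ⟨σ x, hmem x x.2⟩
      invFun := fun x => ⟨σ x, hmem x x.2⟩
      left_inv := fun x => Subtype.ext (hinv x)
      right_inv := fun x => Subtype.ext (hinv x)
      map_mul' := fun x y => Subtype.ext (map_mul σ _ _)
      map_add' := fun x y => Subtype.ext (map_add σ _ _) }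
  have hinv₀ : ∀ a, σ₀ (σ₀ a) = a := fun a => Subtype.ext (hinv a)
  have hne₀ : σ₀ ≠ RingEquiv.refl F₀ := fun h => hτσ
    (congrArg (fun x : F₀ => (x : F)) (RingEquiv.congr_fun h ⟨τ₀, hτ⟩))
  obtain ⟨c₀, hc₀, hc₀'⟩ := exists_traceZero hne₀ hinv₀
  have hc₀F : σ (c₀ : F) = -(c₀ : F) := congrArg Subtype.val hc₀'
  have hc₀0 : (c₀ : F) ≠ 0 := fun h => hc₀ (Subtype.ext h)
  set f' := pullForm (Cfsg.hermForm 3 F q) 1 P with hf'
  have hs' : SesqForm σ f' := sesq_pullForm hh one_ne_zero P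
  have hherm : ∀ u v, f' v u = σ (f' u v) := fun u v => by
    rw [hf', pullForm, pullForm, one_mul, one_mul, hf.herm]
  have hrat := pullForm_mem hP
  rw [← hf'] at hrat
  have hiso : ∀ U : Submodule F₀ (Fin 3 → F), U ≤ ratVecs (Fin 3) F₀ →
      2 ≤ Module.finrank F₀ U → ∃ z ∈ U, z ≠ 0 ∧ f' z z = 0 := by
    intro U hU h2
    haveI : Module.Finite F₀ (Fin 3 → F) := Module.Finite.of_finite
    have hne' : U ≠ ⊥ := fun h => by rw [h, finrank_bot] at h2; omega
    obtain ⟨w, hw, hw0⟩ := Submodule.exists_mem_ne_zero_of_ne_bot hne'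
    by_cases hww : f' w w = 0
    · exact ⟨w, hw, hw0, hww⟩
    obtain ⟨v, hv, hvw⟩ : ∃ v ∈ U, v ∉ Submodule.span F₀ {w} := by
      by_contra h
      push Not at h
      have := Submodule.finrank_mono (h : U ≤ Submodule.span F₀ {w})
      rw [finrank_span_singleton hw0] at this
      omega
    have ha : f' v w / f' w w ∈ F₀ :=
      F₀.div_mem (hrat v (hU hv) w (hU hw)) (hrat w (hU hw) w (hU hw))
    set t := v - (f' v w / f' w w) • w with ht
    have htU : t ∈ U := U.sub_mem hv (U.smul_mem (⟨_, ha⟩ : F₀) hw)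
    have htw : f' t w = 0 := by
      rw [ht, hs'.sub_left, hs'.smul_left, div_mul_cancel₀ _ hww, sub_self]
    have hwt : f' w t = 0 := by rw [hherm t w, htw, map_zero]
    obtain ⟨l, hl⟩ := norm_surjective hne₀ hinv₀
      (a := (⟨- f' t t / f' w w, F₀.div_mem (F₀.neg_mem (hrat t (hU htU) t (hU htU)))
        (hrat w (hU hw) w (hU hw))⟩ : F₀)) (Subtype.ext (by
          show σ (- f' t t / f' w w) = _
          rw [map_div₀, map_neg, ← hherm, ← hherm]))
    have hlF : (l : F) * σ l = - f' t t / f' w w := congrArg Subtype.val hl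
    refine ⟨t + (l : F) • w, U.add_mem htU (U.smul_mem l hw), fun h => hvw ?_, ?_⟩
    · refine Submodule.mem_span_singleton.mpr ⟨((⟨_, ha⟩ : F₀) - l), ?_⟩
      show (f' v w / f' w w - (l : F)) • w = v
      rw [ht] at h
      linear_combination (norm := module) -h
    · rw [hs'.add_left, hs'.add_right, hs'.add_right, hs'.smul_right, hs'.smul_left,
        hs'.smul_left, hs'.smul_right, htw, hwt, ← mul_assoc, hlF, div_mul_cancel₀ _ hww]
      ring
  refine ⟨c₀, ⟨?_, c₀.2, ⟨τ₀, hτ, hτσ⟩, hr, hr2, hcard⟩⟩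
  refine
    { sesq := hs', eps := one_mul 1, sigma_sigma := hinv, sigma_eps := map_one σ,
      herm := fun u v => by rw [one_mul]; exact hherm u v, rat := hrat, sigma_mem := hmem,
      c₀_ne := hc₀0, c₀_trace := by rw [hc₀F]; ring,
      exists_iso := fun U hU h3 => hiso U hU (by omega), exists_iso₂ := fun _ => hiso,
      shift := fun v hv e he hee hve => ?_, trace_gen := fun c hc => ?_ }
  · obtain ⟨m, hm⟩ := trace_surjective hne₀ hinv₀
      (a := (⟨- f' v v, F₀.neg_mem (hrat v hv v hv)⟩ : F₀)) (Subtype.ext (by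
        show σ (- f' v v) = _
        rw [map_neg, ← hherm]))
    have hmF : (m : F) + σ m = - f' v v := congrArg Subtype.val hm
    have hev : f' e v ≠ 0 := fun h => hve (by rw [hherm e v, h, map_zero])
    refine ⟨(m : F) / f' e v, F₀.div_mem m.2 (hrat e he v hv), ?_⟩
    rw [hs'.add_left, hs'.add_right, hs'.add_right, hs'.smul_left, hs'.smul_right, hs'.smul_left,
      hs'.smul_right, hee, mul_zero, mul_zero, add_zero, map_div₀, ← hherm e v,
      div_mul_cancel₀ _ hev, div_mul_cancel₀ _ hve]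
    linear_combination hmF
  · rw [one_mul] at hc
    obtain ⟨t, ht⟩ := norm_surjective hne hinv (a := c / (c₀ : F)) (by
      rw [map_div₀, hc₀F, eq_neg_of_add_eq_zero_right hc, neg_div_neg_eq])
    exact AddSubgroup.subset_closure ⟨t, by
      show (c₀ : F) * (t * σ t) = c
      rw [ht, mul_div_cancel₀ _ hc₀0]⟩

end CfsgLib.SUThree.SubOdd

namespace CfsgLib.SUThree

open Matrix Cfsg.Geo CfsgLib.MaxSub CfsgLib.MaxSub.UC CfsgLib.FormSubfield

/-- **Subfield groups of odd prime index are maximal in `SU₃`.** -/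
theorem isMaximalIn_subfieldOdd {F : Type*} [Field F] [Fintype F] (q : ℕ) (hF : Fintype.card F = q ^ 2)
    (hq : 3 ≤ q) :
    ∀ (F₀ : Subfield F) (r : ℕ) (P : Matrix.GeneralLinearGroup (Fin 3) F), r.Prime → Odd r → Fintype.card F = Nat.card F₀ ^ r → Cfsg.Geo.IsFormRationalStructure (Cfsg.hermForm 3 F q) F₀ 1 P → Cfsg.Geo.IsMaximalIn (Cfsg.GU 3 F q ⊓ Cfsg.Geo.specialLinear (Fin 3) F) (Cfsg.Geo.subfieldSubgroup F₀ P ⊓ (Cfsg.GU 3 F q ⊓ Cfsg.Geo.specialLinear (Fin 3) F)) := by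
  classical
  intro F₀ r P hr hro hcard hP
  obtain ⟨σ, hne, hinv, hσ⟩ := exists_conjEquiv hF
  have hb : Circle.IsBar q σ := ⟨hσ, hF, hne, hinv⟩
  have hf := isUnitaryForm_hermForm (n := 3) hne hinv hσ
  have hh := sesqForm_of_unitary hf
  have hr2 : r ≠ 2 := fun h => absurd (h ▸ hro) (by decide)
  obtain ⟨c₀, d⟩ := SubOdd.exists_data hb hr hr2 hcard hP
  set f := pullForm (Cfsg.hermForm 3 F q) 1 P with hfdef
  have hs := d.setting
  have hfv : ∀ u v, f u v = Cfsg.hermForm 3 F q ((P : Matrix (Fin 3) (Fin 3) F) *ᵥ u) ((P : Matrix (Fin 3) (Fin 3) F) *ᵥ v) :=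
    fun u v => one_mul _
  haveI : (specialLinear (Fin 3) F).Normal := MonoidHom.normal_ker _
  have hK : ∀ x, x ∈ subfieldSubgroup F₀ P ↔ P⁻¹ * x * P ∈ subfieldSubgroup F₀ (1 : GL (Fin 3) F) := by
    intro x
    simp only [subfieldSubgroup, map_one, Subgroup.mem_map]
    constructor
    · rintro ⟨y, hy, rfl⟩
      exact ⟨y, hy, by simp [mul_assoc]⟩
    · rintro ⟨y, hy, e⟩
      exact ⟨y, hy, by
        have e' : y = P⁻¹ * x * P := by simpa using e
        subst e'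
        simp [mul_assoc]⟩
  have hiso : ∀ x, Iso f x ↔ P * x * P⁻¹ ∈ Cfsg.GU 3 F q := by
    intro x
    rw [mem_GU_iff_forall]
    constructor
    · intro h u v
      have := h (((P⁻¹ : GL (Fin 3) F) : Matrix (Fin 3) (Fin 3) F) *ᵥ u)
        (((P⁻¹ : GL (Fin 3) F) : Matrix (Fin 3) (Fin 3) F) *ᵥ v)
      simp only [hfv, mulVec_inv_mulVec] at this
      simpa only [Units.val_mul, ← mulVec_mulVec] using this
    · intro h u v
      have := h ((P : Matrix (Fin 3) (Fin 3) F) *ᵥ u) ((P : Matrix (Fin 3) (Fin 3) F) *ᵥ v)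
      simp only [Units.val_mul, ← mulVec_mulVec] at this
      simp only [mulVec_mulVec _ (P⁻¹ : GL (Fin 3) F).val, Units.inv_mul, one_mulVec] at this
      rw [hfv, hfv, this]
  have hT : ∀ z, f z z = 0 → ∀ c, P * T f z c * P⁻¹ = uTv q ((P : Matrix (Fin 3) (Fin 3) F) *ᵥ z) c := by
    intro z hz c
    refine ext_mulVec fun x => ?_
    rw [uTv_mulVec hf (by rw [← hfv]; exact hz), Units.val_mul, Units.val_mul, ← mulVec_mulVec,
      ← mulVec_mulVec, hs.T_mulVec hz, mulVec_add, mulVec_smul, mulVec_inv_mulVec, hfv, mulVec_inv_mulVec]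
  have horth : ∀ x z, f x x = 0 → f z z = 0 → z ≠ 0 → f x z = 0 → ∃ c : F, x = c • z := by
    intro x z hx hz hz0 hxz
    by_contra hcon
    push Not at hcon
    refine iso_not_orth' hf (x := (P : Matrix (Fin 3) (Fin 3) F) *ᵥ x) (y := (P : Matrix (Fin 3) (Fin 3) F) *ᵥ z)
      (by rw [← hfv]; exact hx) (by rw [← hfv]; exact hz) (mulVec_ne_zero P hz0) (fun c hc => hcon c ?_)
      (by rw [← hfv]; exact hxz)
    rw [← mulVec_smul] at hc
    exact ((mulVec_injective_iff_isUnit.mpr P.isUnit) hc).symm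
  obtain ⟨e, e', a, hfr⟩ := SubOdd.exists_frame d
  refine isMaximalIn_of inf_le_right ?_ fun M hHM hMK x hx hx' => ?_
  · -- an irrational transvection
    obtain ⟨δ, hδσ, hδ⟩ : ∃ δ, σ δ = -δ ∧ δ ∉ F₀ := by
      by_contra hcon
      push Not at hcon
      obtain ⟨τ, hτ, hτσ⟩ := d.moved
      obtain ⟨y, hy⟩ := exists_notMem hr hcard
      have hd : τ - σ τ ≠ 0 := sub_ne_zero.2 (Ne.symm hτσ)
      have hd' : σ τ - τ ≠ 0 := sub_ne_zero.2 hτσ
      set v := (y - σ y) / (τ - σ τ) with hv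
      have hvσ : σ v = v := by
        rw [hv, map_div₀, map_sub, map_sub, hinv, hinv, div_eq_div_iff hd' hd]; ring
      have huσ : σ (y - τ * v) = y - τ * v := by
        rw [map_sub, map_mul, hvσ, hv]; field_simp; ring
      have hfix : ∀ w, σ w = w → w ∈ F₀ := fun w hw => by
        have h1 := F₀.div_mem (hcon (w * c₀) (by rw [map_mul, hw, SubOdd.sigma_c₀ d, mul_neg])) d.c₀_mem
        rwa [mul_div_cancel_right₀ _ hs.c₀_ne] at h1
      exact hy (by simpa using F₀.add_mem (hfix _ huσ) (F₀.mul_mem hτ (hfix _ hvσ)))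
    have hTI : Iso f (T f e δ) := hs.T_iso hfr.ee (by rw [one_mul, hδσ, add_neg_cancel])
    refine ⟨P * T f e δ * P⁻¹, ⟨(hiso _).1 hTI, Subgroup.Normal.conj_mem inferInstance _
      (T_mem_specialLinear _ _ _) P⟩, fun hmem => hδ ?_⟩
    have h1 := (hK _).1 hmem.1
    rw [show P⁻¹ * (P * T f e δ * P⁻¹) * P = T f e δ by group] at h1
    obtain ⟨k, hk, hkt⟩ := mem_subfieldSubgroup_one_iff.1 h1
    have he0 : e ≠ 0 := fun e0 => one_ne_zero (α := F) (by rw [← hfr.e'e, e0, hs.sesq.zero_right])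
    obtain ⟨i, hi⟩ := Function.ne_iff.1 he0
    rw [Pi.zero_apply] at hi
    have hkF : k ∈ F₀ := by
      have h3 := mulVec_mem_ratVecs hkt hfr.re i
      rw [smul_mulVec, hs.T_mulVec hfr.ee, hfr.ee] at h3
      simpa [mul_div_assoc, div_self hi] using F₀.div_mem h3 (hfr.re i)
    have h3 := mulVec_mem_ratVecs hkt hfr.re'
    rw [smul_mulVec, hs.T_mulVec hfr.ee, hfr.e'e, mul_one] at h3
    have h4 := Submodule.sub_mem _ (smul_mem_ratVecs (F₀.inv_mem hkF) h3) hfr.re'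
    rw [inv_smul_smul₀ hk, add_sub_cancel_left] at h4
    simpa [mul_div_assoc, div_self hi] using F₀.div_mem (h4 i) (hfr.re i)
  · let M' : Subgroup (GL (Fin 3) F) := M.comap (MulAut.conj P).toMonoidHom
    have hmem : ∀ x, x ∈ M' ↔ P * x * P⁻¹ ∈ M := fun x => Iff.rfl
    have hO : SubOdd.Over F₀ f M' := by
      refine ⟨fun y hyI hyd hyR => (hmem y).2 (hHM ⟨(hK _).2 ?_, (hiso y).1 hyI,
        Subgroup.Normal.conj_mem inferInstance _ hyd P⟩), fun y hy => (hiso y).2 (hMK ((hmem y).1 hy)).1⟩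
      rw [show P⁻¹ * (P * y * P⁻¹) * P = y by group]
      exact mem_subfieldSubgroup_one_of_rat hyR
    rcases SubOdd.le_or_full d hO horth with h | ⟨v, hv0, hvv, hall⟩
    · refine absurd ⟨(hK x).2 (h ((hmem _).2 ?_)), hMK hx⟩ hx'
      rwa [show P * (P⁻¹ * x * P) * P⁻¹ = x by group]
    refine su_le_of_centre hf hb hq (fun y hy => (hMK hy).1) ?_
      (v := (P : Matrix (Fin 3) (Fin 3) F) *ᵥ v) (by rw [← hfv]; exact hvv) (mulVec_ne_zero P hv0)
      fun c hc => by rw [← hT v hvv]; exact (hmem _).1 (hall c hc)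
    intro W hW
    rcases eq_or_ne W ⊥ with hW0 | hW0
    · exact Or.inl hW0
    right
    -- the rational transvections move `W`
    have hinj := mulVec_injective_iff_isUnit.mpr P.isUnit
    have hsmul : ∀ {z}, z ∈ ratVecs (Fin 3) F₀ → f z z = 0 → ∀ {w}, w ∈ W →
        Cfsg.hermForm 3 F q w ((P : Matrix (Fin 3) (Fin 3) F) *ᵥ z) ≠ 0 → (P : Matrix (Fin 3) (Fin 3) F) *ᵥ z ∈ W := by
      intro z hz hzz w hw hne
      have hTz : uTv q ((P : Matrix (Fin 3) (Fin 3) F) *ᵥ z) c₀ ∈ M := by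
        rw [← hT z hzz]
        exact (hmem _).1 (SubOdd.T_mem_rat d hO hz hzz d.c₀_mem (SubOdd.sigma_c₀ d))
      have h1 := hW _ hTz w hw
      rw [uTv_mulVec hf (by rw [← hfv]; exact hzz), W.add_mem_iff_right hw] at h1
      exact (W.smul_mem_iff (mul_ne_zero hs.c₀_ne hne)).1 h1
    obtain ⟨t, ht, hte, hz, hzz⟩ := hfr.exists_point d F₀.one_mem
    set z := e + t • e' + (1 : F) • a with hzdef
    have ht0 : t ≠ 0 := fun e0 => hfr.aa (by
      rw [e0, map_zero, add_zero, zero_add, map_one, mul_one, one_mul] at hte; exact hte)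
    have hee' := hfr.ee' d
    obtain ⟨w, hw, hw0⟩ := Submodule.exists_mem_ne_zero_of_ne_bot hW0
    obtain ⟨w', rfl⟩ : ∃ w', w = (P : Matrix (Fin 3) (Fin 3) F) *ᵥ w' :=
      ⟨((P⁻¹ : GL (Fin 3) F) : Matrix (Fin 3) (Fin 3) F) *ᵥ w, (mulVec_inv_mulVec P w).symm⟩
    have hmove : ∀ {p s : Fin 3 → F}, p ∈ ratVecs (Fin 3) F₀ → f p p = 0 →
        (P : Matrix (Fin 3) (Fin 3) F) *ᵥ s ∈ W → f s p ≠ 0 → (P : Matrix (Fin 3) (Fin 3) F) *ᵥ p ∈ W :=
      fun hp hpp hs' hne => hsmul hp hpp hs' (by rwa [← hfv])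
    have hnz : f z e = t := by simp [hzdef, hs.sesq.add_left, hs.sesq.smul_left, hfr.ee, hfr.e'e, hfr.ae]
    have hnz' : f z e' = 1 := by simp [hzdef, hs.sesq.add_left, hs.sesq.smul_left, hee', hfr.e'e', hfr.ae']
    have hsome : (P : Matrix (Fin 3) (Fin 3) F) *ᵥ e ∈ W := by
      by_cases h1 : f w' e = 0
      · by_cases h2 : f w' e' = 0
        · by_cases h3 : f w' z = 0
          · exfalso
            apply hw0
            have h4 : f w' a = 0 := by
              rw [hzdef, hs.sesq.add_right, hs.sesq.add_right, hs.sesq.smul_right, hs.sesq.smul_right, h1, h2,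
                mul_zero, zero_add, zero_add, map_one, one_mul] at h3
              exact h3
            rw [hfr.repr d w', h1, h2, h4, zero_div, zero_smul, zero_smul, zero_smul, add_zero, add_zero,
              mulVec_zero]
          · have := hmove hz hzz hw h3
            exact hmove hfr.re hfr.ee this (by rw [hnz]; exact ht0)
        · exact hmove hfr.re hfr.ee (hmove hfr.re' hfr.e'e' hw h2) (by rw [hfr.e'e]; exact one_ne_zero)
      · exact hmove hfr.re hfr.ee hw h1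
    have hsome' := hmove hfr.re' hfr.e'e' hsome (by rw [hee']; exact one_ne_zero)
    have hsome'' := hmove hz hzz hsome' (fun e0 => one_ne_zero (α := F)
      (by rw [← hnz', ← SubOdd.herm' d e' z, e0, map_zero]))
    have ha : (P : Matrix (Fin 3) (Fin 3) F) *ᵥ a ∈ W := by
      have e1 : a = z - e - t • e' := by rw [hzdef, one_smul]; abel
      rw [e1, mulVec_sub, mulVec_sub, mulVec_smul]
      exact W.sub_mem (W.sub_mem hsome'' hsome) (W.smul_mem _ hsome')
    refine eq_top_iff.2 fun u _ => ?_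
    rw [← mulVec_inv_mulVec P u, hfr.repr d (((P⁻¹ : GL (Fin 3) F) : Matrix (Fin 3) (Fin 3) F) *ᵥ u),
      mulVec_add, mulVec_add, mulVec_smul, mulVec_smul, mulVec_smul]
    exact W.add_mem (W.add_mem (W.smul_mem _ hsome) (W.smul_mem _ hsome')) (W.smul_mem _ ha)

end CfsgLib.SUThree
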