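import Mathlib.GroupTheory.GroupAction.Quotient
import Mathlib.GroupTheory.Index
import Mathlib.Tactic

/-!
# A semiregular group on the non-base cosets
-/

set_option autoImplicit false

namespace CfsgLib.SUThree

/-- If `S ≤ H ≤ M` and no non-trivial element of `S` fixes a coset in `M/H` except the base one, then
`|S|` divides `[M : H] - 1`. -/
theorem card_dvd_relIndex_sub_one {G : Type*} [Group G] [Finite G] {S H M : Subgroup G} (hSH : S ≤ H)
    (hHM : H ≤ M) (h : ∀ s ∈ S, s ≠ 1 → ∀ m ∈ M, m⁻¹ * s * m ∈ H → m ∈ H) :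
    Nat.card S ∣ H.relIndex M - 1 := by
  classical
  set K := H.subgroupOf M
  set T := S.subgroupOf M
  let base : ↥M ⧸ K := QuotientGroup.mk 1
  have hbase : ∀ t : ↥T, (t : ↥M) • base = base := fun t => by
    rw [MulAction.Quotient.smul_mk, smul_eq_mul, mul_one, QuotientGroup.eq, mul_one]
    exact K.inv_mem (hSH t.2)
  let p : SubMulAction ↥T (↥M ⧸ K) :=
    { carrier := {x | x ≠ base}
      smul_mem' := fun t x hx e => hx (MulAction.injective (t : ↥M) (e.trans (hbase t).symm)) }
  have hfree : ∀ x : p, MulAction.stabilizer ↥T x = ⊥ := fun x => by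
    obtain ⟨x, hx⟩ := x
    refine (Subgroup.eq_bot_iff_forall _).2 fun t ht => by_contra fun ht1 => hx ?_
    induction x using QuotientGroup.induction_on with
    | H m =>
      have ht' : (QuotientGroup.mk ((t : ↥M) * m) : ↥M ⧸ K) = QuotientGroup.mk m :=
        congrArg Subtype.val (MulAction.mem_stabilizer_iff.1 ht)
      rw [eq_comm, QuotientGroup.eq, ← mul_assoc] at ht'
      have hm : (m : G) ∈ H := h _ t.2 (fun e => ht1 (Subtype.ext (Subtype.ext e))) m m.2 ht'
      exact QuotientGroup.eq.2 (by rw [mul_one]; exact K.inv_mem hm)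
  have hcard : Nat.card p = H.relIndex M - 1 := by
    have : Fintype (↥M ⧸ K) := Fintype.ofFinite _
    show Nat.card {x : ↥M ⧸ K // x ≠ base} = _
    rw [Nat.card_eq_fintype_card, Fintype.card_subtype_compl, Fintype.card_subtype_eq,
      ← Nat.card_eq_fintype_card]
    rfl
  rw [← hcard, Nat.card_congr (MulAction.selfEquivOrbitsQuotientProd hfree), Nat.card_prod,
    Nat.card_congr (Subgroup.subgroupOfEquivOfLe (hSH.trans hHM)).toEquiv]
  exact dvd_mul_left _ _

/-- If the elements of `S ≤ H ≤ M` fixing a coset in `M/H` other than the base one form a group of order dividing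
`k`, then `|S|` divides `k ([M : H] - 1)`. -/
theorem card_dvd_mul_relIndex_sub_one {G : Type*} [Group G] [Finite G] {S H M : Subgroup G} (hSH : S ≤ H)
    (hHM : H ≤ M) {k : ℕ}
    (h : ∀ m ∈ M, m ∉ H → Nat.card ↥(S ⊓ H.map (MulAut.conj m).toMonoidHom) ∣ k) :
    Nat.card S ∣ k * (H.relIndex M - 1) := by
  classical
  set K := H.subgroupOf M
  set T := S.subgroupOf M
  let base : ↥M ⧸ K := QuotientGroup.mk 1
  have hbase : ∀ t : ↥T, (t : ↥M) • base = base := fun t => by
    rw [MulAction.Quotient.smul_mk, smul_eq_mul, mul_one, QuotientGroup.eq, mul_one]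
    exact K.inv_mem (hSH t.2)
  let p : SubMulAction ↥T (↥M ⧸ K) :=
    { carrier := {x | x ≠ base}
      smul_mem' := fun t x hx e => hx (MulAction.injective (t : ↥M) (e.trans (hbase t).symm)) }
  have hcard : Nat.card p = H.relIndex M - 1 := by
    have : Fintype (↥M ⧸ K) := Fintype.ofFinite _
    show Nat.card {x : ↥M ⧸ K // x ≠ base} = _
    rw [Nat.card_eq_fintype_card, Fintype.card_subtype_compl, Fintype.card_subtype_eq,
      ← Nat.card_eq_fintype_card]
    rfl
  have hST : Nat.card T = Nat.card S := Nat.card_congr (Subgroup.subgroupOfEquivOfLe (hSH.trans hHM)).toEquiv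
  have hdiv : ∀ x : p, Nat.card T ∣ k * (MulAction.stabilizer ↥T x).index := fun x => by
    obtain ⟨x, hx⟩ := x
    induction x using QuotientGroup.induction_on with
    | H m =>
      have hm : (m : G) ∉ H := fun e => hx (QuotientGroup.eq.2 (by rw [mul_one]; exact K.inv_mem e))
      rw [← (MulAction.stabilizer ↥T (⟨QuotientGroup.mk m, hx⟩ : p)).card_mul_index]
      refine Nat.mul_dvd_mul_right ((?_ : _ ∣ _).trans (h m m.2 hm)) _
      have hi : Function.Injective ((M.subtype.comp T.subtype) : ↥T →* G) :=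
        M.subtype_injective.comp T.subtype_injective
      rw [Nat.card_congr (Subgroup.equivMapOfInjective _ _ hi).toEquiv]
      refine Subgroup.card_dvd_of_le ?_
      rintro _ ⟨t, ht, rfl⟩
      have ht' : (QuotientGroup.mk ((t : ↥M) * m) : ↥M ⧸ K) = QuotientGroup.mk m :=
        congrArg Subtype.val (MulAction.mem_stabilizer_iff.1 ht)
      rw [eq_comm, QuotientGroup.eq, ← mul_assoc] at ht'
      exact ⟨t.2, _, ht', by simp [mul_assoc]⟩
  have : Fintype (MulAction.orbitRel.Quotient ↥T p) := Fintype.ofFinite _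
  rw [← hST, ← hcard, Nat.card_congr (MulAction.selfEquivSigmaOrbitsQuotientStabilizer ↥T p), Nat.card_sigma,
    Finset.mul_sum]
  exact Finset.dvd_sum fun ω _ => hdiv _

end CfsgLib.SUThree
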