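import Cfsg.Agent.SUThree.SubfieldLine
import Cfsg.Agent.SubfieldMax.AnyDim
import Cfsg.Agent.DicksonPSL2.Subfield
import Cfsg.Agent.DicksonPSL2.Components

/-!
# Root groups on a chord

Two root groups at non-orthogonal isotropic vectors live in `SL₂` over the fixed field. If one of them has
more than a prime field of scalars, Dickson's list makes its scalars a field and the inverses of the scalars
of the other lie in a single coset of it.
-/

set_option autoImplicit false
set_option linter.unusedSectionVars false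

namespace CfsgLib.SUThree.SubOdd

open Matrix Cfsg.Geo CfsgLib.MaxSub CfsgLib.FormSubfield CfsgLib.DicksonPSL2 CfsgLib.SL2Trace
open scoped MatrixGroups

variable {F : Type*} [Field F] [Fintype F]
variable {F₀ : Subfield F} {σ : F ≃+* F} {c₀ : F} {f : (Fin 3 → F) → (Fin 3 → F) → F}
variable {r : ℕ}

/-- The field fixed by the involution. -/
def fixedField (σ : F ≃+* F) : Subfield F := RingHom.eqLocusField σ.toRingHom (RingHom.id F)

theorem mem_fixedField {x : F} : x ∈ fixedField σ ↔ σ x = x := Iff.rfl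

/-- The scalars of the root group at `p`, scaled. -/
def Upper (σ : F ≃+* F) (c₀ : F) (f : (Fin 3 → F) → (Fin 3 → F) → F) (M : Subgroup (GL (Fin 3) F))
    (p : Fin 3 → F) (μ : F) : Prop :=
  σ μ = μ ∧ T f p (μ / c₀) ∈ M

/-- The scalars of the root group at `p'`, scaled the other way. -/
def Lower (σ : F ≃+* F) (c₀ : F) (f : (Fin 3 → F) → (Fin 3 → F) → F) (M : Subgroup (GL (Fin 3) F))
    (p : Fin 3 → F) (ν : F) : Prop :=
  σ ν = ν ∧ T f p (c₀ * ν) ∈ M

variable (d : Data F₀ σ c₀ f r)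

include d

/-- Many scalars from one outside the prime field. -/
theorem sq_le_card_trans {p : ℕ} [Fact p.Prime] [CharP F p] {H : Subgroup PSL(2, fixedField σ)}
    (h1 : (1 : fixedField σ) ∈ trans H) {μ : fixedField σ} (hμ : μ ∈ trans H)
    (hμn : ∀ n : ℕ, (μ : F) ≠ n) : p * p ≤ Nat.card (trans H) := by
  classical
  haveI : CharP (fixedField σ) p := RingHom.charP (fixedField σ).subtype Subtype.val_injective p
  let g : ZMod p × ZMod p → trans H := fun x => ⟨x.1.val • (1 : fixedField σ) + x.2.val • μ,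
    (trans H).add_mem ((trans H).nsmul_mem h1 _) ((trans H).nsmul_mem hμ _)⟩
  have hg : Function.Injective g := by
    rintro ⟨i, j⟩ ⟨i', j'⟩ e
    let φ : ZMod p →+* F := ZMod.castHom dvd_rfl F
    have e0 := congrArg (fun t : trans H => (fixedField σ).subtype (t : fixedField σ)) e
    have hv : ∀ x : ZMod p, φ x = (x.val : F) := fun x => by
      rw [← map_natCast φ, ZMod.natCast_zmod_val]
    have e1 : φ i + φ j * (μ : F) = φ i' + φ j' * μ := by
      rw [hv, hv, hv, hv]
      simpa [g, nsmul_eq_mul, -ZMod.natCast_val] using e0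
    have hφ : Function.Injective φ := φ.injective
    by_cases hj : j = j'
    · subst hj
      rw [add_left_inj] at e1
      rw [hφ e1]
    · exfalso
      refine hμn ((i' - i) / (j - j')).val ?_
      rw [ZMod.natCast_val]
      show (μ : F) = φ _
      rw [map_div₀, map_sub, map_sub, eq_div_iff (sub_ne_zero.2 fun e => hj (hφ e))]
      linear_combination e1
  have := Nat.card_le_card_of_injective g hg
  rwa [Nat.card_prod, Nat.card_zmod] at this

/-- **Dickson on a chord.** -/
theorem chord {M : Subgroup (GL (Fin 3) F)} {p p' : Fin 3 → F} (hpp : f p p = 0) (hp'p' : f p' p' = 0)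
    (hp'p : f p' p = 1) (h1 : Upper σ c₀ f M p 1) {μ : F} (hμ : Upper σ c₀ f M p μ)
    (hμn : ∀ n : ℕ, μ ≠ n) {ν₀ : F} (hν₀ : Lower σ c₀ f M p' ν₀) (hν₀0 : ν₀ ≠ 0) :
    (∀ x y, Upper σ c₀ f M p x → Upper σ c₀ f M p y → Upper σ c₀ f M p (x * y)) ∧
    ∀ ν ν', Lower σ c₀ f M p' ν → ν ≠ 0 → Lower σ c₀ f M p' ν' → ν' ≠ 0 →
      Upper σ c₀ f M p (ν⁻¹ - ν'⁻¹) := by
  classical
  have hs := d.setting
  have hpp' : f p p' = 1 := by rw [← herm' d p' p, hp'p, map_one]
  have hc0 := hs.c₀_ne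
  let U : Matrix (Fin 3) (Fin 2) F := (Matrix.of ![c₀⁻¹ • p, p'])ᵀ
  let U' : Matrix (Fin 2) (Fin 3) F := Matrix.of ![c₀ • leftVec f p', leftVec f p]
  have hU : U' * U = 1 := by
    ext i j
    show (![c₀ • leftVec f p', leftVec f p] i) ⬝ᵥ (![c₀⁻¹ • p, p'] j) = _
    fin_cases i <;> fin_cases j <;>
      simp [smul_dotProduct, dotProduct_smul, hs.sesq.dot_leftVec, hs.sesq.smul_left, hpp, hp'p', hp'p, hpp', hc0]
  set Φ := SubfieldMax.embedTwo U U' hU with hΦ
  have hUU : ∀ (A : SL(2, F)) (x : Fin 3 → F), (Φ A : Matrix (Fin 3) (Fin 3) F) *ᵥ x =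
      x + (((A.1 0 0 - 1) * (c₀ * f x p') + A.1 0 1 * f x p) * c₀⁻¹) • p +
        (A.1 1 0 * (c₀ * f x p') + (A.1 1 1 - 1) * f x p) • p' := by
    intro A x
    have e1 : U' *ᵥ x = ![c₀ * f x p', f x p] := by
      funext i
      fin_cases i
      · show (c₀ • leftVec f p') ⬝ᵥ x = _
        rw [smul_dotProduct, hs.sesq.dot_leftVec]; rfl
      · show leftVec f p ⬝ᵥ x = _
        rw [hs.sesq.dot_leftVec]; rfl
    rw [hΦ, SubfieldMax.embedTwo_val, add_mulVec, one_mulVec, ← mulVec_mulVec, e1, ← mulVec_mulVec]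
    funext i
    simp [U, mulVec, dotProduct, Fin.sum_univ_two]
    ring
  let Ψ := Φ.comp (Matrix.SpecialLinearGroup.map (fixedField σ).subtype)
  have hup : ∀ w : fixedField σ, Ψ (upSL w) = T f p ((w : F) / c₀) := by
    intro w
    refine ext_mulVec fun x => ?_
    show (Φ _ : Matrix (Fin 3) (Fin 3) F) *ᵥ x = _
    rw [hUU, hs.T_mulVec hpp]
    simp [coe_upSL, Matrix.SpecialLinearGroup.map_apply_coe, div_eq_mul_inv]
    module
  let loSL : fixedField σ → SL(2, fixedField σ) := fun w => ⟨!![1, 0; w, 1], by simp [Matrix.det_fin_two]⟩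
  have hlo : ∀ w : fixedField σ, Ψ (loSL w) = T f p' (c₀ * (w : F)) := by
    intro w
    refine ext_mulVec fun x => ?_
    show (Φ _ : Matrix (Fin 3) (Fin 3) F) *ᵥ x = _
    rw [hUU, hs.T_mulVec hp'p']
    have hval : (Matrix.SpecialLinearGroup.map (fixedField σ).subtype (loSL w)).1 = !![1, 0; (w : F), 1] := by
      ext i j; fin_cases i <;> fin_cases j <;> rfl
    simp [hval]
    module
  obtain ⟨P, hchar⟩ := CharP.exists F
  haveI := hchar
  haveI : Fact P.Prime := ⟨CharP.char_is_prime F P⟩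
  haveI : CharP (fixedField σ) P := RingHom.charP (fixedField σ).subtype Subtype.val_injective P
  haveI : Fintype (fixedField σ) := Fintype.ofFinite _
  set H : Subgroup PSL(2, fixedField σ) := (M.comap Ψ).map projHom with hH
  have htr : ∀ w : fixedField σ, w ∈ trans H ↔ T f p ((w : F) / c₀) ∈ M := by
    intro w
    rw [mem_trans, ← hup]
    refine ⟨?_, fun h => ⟨upSL w, h, rfl⟩⟩
    rintro ⟨x, hx, hxw⟩
    rcases proj_eq_proj_iff.1 (show proj x = proj (upSL w) from hxw) with h | h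
    · rw [h]; exact hx
    · have hp : (upSL w) ^ P = 1 := by
        have hn : ∀ n : ℕ, upSL w ^ n = upSL ((n : fixedField σ) * w) := fun n => by
          induction n with
          | zero => simp [upSL_zero]
          | succ n ih => rw [pow_succ, ih, ← upSL_add]; push_cast; ring_nf
        rw [hn, CharP.cast_eq_zero, zero_mul, upSL_zero]
      rcases Nat.even_or_odd P with he | ho
      · have h2 : P = 2 := ((Fact.out : P.Prime).even_iff).1 he
        subst h2
        have : upSL w = x := by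
          rw [h]
          refine Subtype.ext (Matrix.ext fun i j => ?_)
          rw [Matrix.SpecialLinearGroup.coe_neg, Matrix.neg_apply, CharTwo.neg_eq]
        rw [this]; exact hx
      · have h3 : x ^ (P + 1) = upSL w := by
          rw [← neg_neg x, ← h, (Odd.add_one ho).neg_pow, pow_succ, hp, one_mul]
        rw [← h3, map_pow]
        exact M.pow_mem hx _
  have hU' : ∀ x : F, Upper σ c₀ f M p x ↔ ∃ hx : σ x = x, (⟨x, hx⟩ : fixedField σ) ∈ trans H := fun x => by
    constructor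
    · exact fun h => ⟨h.1, (htr _).2 h.2⟩
    · rintro ⟨hx, h⟩; exact ⟨hx, (htr _).1 h⟩
  have hsl : ∀ ν (hν : σ ν = ν), T f p' (c₀ * ν) ∈ M → ν ≠ 0 →
      (⟨ν, hν⟩ : fixedField σ)⁻¹ ∈ slopes H := by
    intro ν hν hM hν0
    have hne : (⟨ν, hν⟩ : fixedField σ) ≠ 0 := fun e => hν0 (congrArg Subtype.val e)
    refine ⟨proj (loSL ⟨ν, hν⟩), ⟨⟨_, ?_, rfl⟩, ?_⟩, ?_⟩
    · show Ψ _ ∈ M
      rw [hlo]; exact hM
    · rw [proj_mem_BP_iff]; simpa [loSL] using hne
    · rw [slope_proj]; simp [loSL]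
  have h1' : (1 : fixedField σ) ∈ trans H := (htr 1).2 h1.2
  have hμ' : (⟨μ, hμ.1⟩ : fixedField σ) ∈ trans H := (htr _).2 hμ.2
  have hbig := sq_le_card_trans d (p := P) h1' hμ' hμn
  have hP2 : 2 ≤ P := (Fact.out : P.Prime).two_le
  have hsub : IsSubfieldType H := by
    rcases char_case P (H := H) h1' one_ne_zero with hB | ⟨-, x, hx, hle⟩ | ⟨h60, hp3, -⟩ | hsub
    · obtain ⟨y, ⟨hy, hyB⟩, -⟩ := hsl ν₀ hν₀.1 hν₀.2 hν₀0
      exact absurd (hB hy) hyB
    · exfalso
      have hn : ∀ {v : fixedField σ}, u v ∈ H → v ≠ 0 → u v ∉ torus x := fun {v} _ hv0 h =>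
        not_isTor_u v (isTor_of_mem_torus hx h (u_ne_one hv0)).1
      have hall : ∀ v : trans H, v ≠ 0 → (v : fixedField σ) = 1 := by
        intro v hv
        have hv0 : (v : fixedField σ) ≠ 0 := fun h => hv (Subtype.ext h)
        by_contra hne'
        have h2 := div_mem_torus hx ((mem_normalizer_torus_iff hx).1 (hle v.2))
          ((mem_normalizer_torus_iff hx).1 (hle h1')) (hn v.2 hv0) (hn h1' one_ne_zero)
        rw [← u_neg, ← u_add] at h2
        refine hn (v := -1 + v) ?_ ?_ h2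
        · rw [u_add, u_neg]; exact mul_mem (inv_mem h1') v.2
        · rw [neg_add_eq_sub, sub_ne_zero]; exact hne'
      have : Nat.card (trans H) = 2 :=
        (Nat.card_eq_two_iff' (0 : trans H)).2 ⟨⟨1, h1'⟩, fun h => one_ne_zero (congrArg Subtype.val h),
          fun v hv => Subtype.ext (hall v hv)⟩
      have := Nat.mul_le_mul hP2 hP2
      omega
    · exfalso
      subst hp3
      have h60' : Nat.card (trans H) ∣ 60 := by
        rw [← h60, ← card_upGroup_subgroupOf]
        exact Subgroup.card_subgroup_dvd_card _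
      obtain ⟨i, hi⟩ := (isPGroup_upGroup_subgroupOf 3 (H := H)).exists_card_eq
      rw [card_upGroup_subgroupOf] at hi
      rw [hi] at h60' hbig
      have : i ≤ 1 := by
        by_contra hi1
        have h9 : 3 ^ 2 ∣ 60 := (Nat.pow_dvd_pow 3 (by omega : 2 ≤ i)).trans h60'
        norm_num at h9
      have := Nat.pow_le_pow_right (show 0 < 3 by norm_num) this
      omega
    · exact hsub
  obtain ⟨-, hk, e₀, he₀⟩ := hsub
  obtain ⟨K, _, _, ι, w, -, hT, -⟩ := exists_field P hk h1' one_ne_zero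
  refine ⟨fun x y hx hy => ?_, fun ν ν' hν hν0 hν' hν'0 => ?_⟩
  · obtain ⟨hxσ, hx⟩ := (hU' x).1 hx
    obtain ⟨hyσ, hy⟩ := (hU' y).1 hy
    refine (hU' _).2 ⟨by rw [map_mul, hxσ, hyσ], ?_⟩
    obtain ⟨a, ha⟩ := (hT _).1 hx
    obtain ⟨b, hb⟩ := (hT _).1 hy
    obtain ⟨c, hc⟩ := (hT _).1 h1'
    refine (hT _).2 ⟨a * b / c, ?_⟩
    have hw : (w : fixedField σ) ≠ 0 := w.ne_zero
    have hc' : ι c = (w : fixedField σ)⁻¹ := eq_inv_of_mul_eq_one_right hc.symm
    show (⟨x, hxσ⟩ : fixedField σ) * ⟨y, hyσ⟩ = _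
    rw [ha, hb, map_div₀, map_mul, hc']
    field_simp
  · refine (hU' _).2 ⟨by rw [map_sub, map_inv₀, map_inv₀, hν.1, hν'.1], ?_⟩
    have h2 := (trans H).sub_mem (he₀ _ (hsl ν hν.1 hν.2 hν0)) (he₀ _ (hsl ν' hν'.1 hν'.2 hν'0))
    rw [sub_sub_sub_cancel_right] at h2
    exact h2

end CfsgLib.SUThree.SubOdd
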