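import Cfsg.Agent.FormSubfield.Main
import Cfsg.Agent.MaxSub.UnitaryBasic

/-!
# Hermitian rational structures on a 3-space: frames and rational points

If the values `f z y` at the rational isotropic vectors `z` have rational norms, the isotropic vector `y`
spans a rational line. An isometry mapping the rational isotropic lines to rational lines is rational up to
a scalar.
-/

set_option autoImplicit false
set_option linter.unusedSectionVars false

namespace CfsgLib.SUThree.SubOdd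

open Matrix Cfsg.Geo CfsgLib.MaxSub CfsgLib.FormSubfield

variable {F : Type*} [Field F] [Fintype F]
variable {F₀ : Subfield F} {σ : F ≃+* F} {c₀ : F} {f : (Fin 3 → F) → (Fin 3 → F) → F}

/-- The data: a rational structure of odd prime degree with a skew scalar and a moved scalar. -/
structure Data (F₀ : Subfield F) (σ : F ≃+* F) (c₀ : F) (f : (Fin 3 → F) → (Fin 3 → F) → F) (r : ℕ) :
    Prop where
  setting : Setting F₀ σ (1 : F) c₀ f
  c₀_mem : c₀ ∈ F₀
  moved : ∃ τ ∈ F₀, σ τ ≠ τ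
  prime : r.Prime
  odd : r ≠ 2
  card : Fintype.card F = Nat.card F₀ ^ r

/-- A hyperbolic pair and a rational vector orthogonal to it. -/
structure Frame (F₀ : Subfield F) (f : (Fin 3 → F) → (Fin 3 → F) → F) (e e' a : Fin 3 → F) : Prop where
  re : e ∈ ratVecs (Fin 3) F₀
  re' : e' ∈ ratVecs (Fin 3) F₀
  ra : a ∈ ratVecs (Fin 3) F₀
  ee : f e e = 0
  e'e' : f e' e' = 0
  e'e : f e' e = 1
  ae : f a e = 0
  ae' : f a e' = 0
  aa : f a a ≠ 0

variable {r : ℕ} (d : Data F₀ σ c₀ f r)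

include d

theorem herm' (u v : Fin 3 → F) : σ (f u v) = f v u := by
  rw [d.setting.sigma_f, one_mul]

theorem sigma_c₀ : σ c₀ = -c₀ := by linear_combination d.setting.c₀_trace

theorem finrank_eq : Module.finrank F₀ F = r := by
  have : Fintype F₀ := Fintype.ofFinite _
  have h := Module.card_eq_pow_finrank (K := F₀) (V := F)
  rw [d.card, Nat.card_eq_fintype_card] at h
  exact (Nat.pow_right_injective Fintype.one_lt_card h).symm

/-- A square root of a rational scalar is rational. -/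
theorem mem_of_sq {x : F} (hx : x * x ∈ F₀) : x ∈ F₀ := by
  haveI : FiniteDimensional F₀ F := Module.Finite.of_finite
  have hi : IsIntegral F₀ x := IsIntegral.of_finite F₀ x
  let P : Polynomial F₀ := Polynomial.X ^ 2 - Polynomial.C ⟨x * x, hx⟩
  have hP : P.Monic := Polynomial.monic_X_pow_sub_C _ two_ne_zero
  have hroot : Polynomial.aeval x P = 0 := by
    simp only [P, map_sub, map_pow, Polynomial.aeval_X, Polynomial.aeval_C]
    show x ^ 2 - x * x = 0
    ring
  have hle := Polynomial.natDegree_le_of_dvd (minpoly.dvd F₀ x hroot) hP.ne_zero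
  rw [show P.natDegree = 2 from Polynomial.natDegree_X_pow_sub_C] at hle
  have hdvd := minpoly.degree_dvd hi
  rw [finrank_eq d] at hdvd
  rcases (Nat.dvd_prime d.prime).1 hdvd with h | h
  · obtain ⟨y, hy⟩ := minpoly.natDegree_eq_one_iff.1 h
    rw [← hy]
    exact y.2
  · have h3 := d.prime.two_le
    have := d.odd
    omega

/-- Two independent traces determine a rational scalar. -/
theorem mem_of_traces {a b z : F} (ha : a ∈ F₀) (hb : b ∈ F₀) (hab : a * σ b - σ a * b ≠ 0)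
    (h1 : a * z + σ (a * z) ∈ F₀) (h2 : b * z + σ (b * z) ∈ F₀) : z ∈ F₀ := by
  have hσ := d.setting.sigma_mem
  have h3 := F₀.div_mem (F₀.sub_mem (F₀.mul_mem (hσ b hb) h1) (F₀.mul_mem (hσ a ha) h2))
    (F₀.sub_mem (F₀.mul_mem ha (hσ b hb)) (F₀.mul_mem (hσ a ha) hb))
  convert h3 using 1
  rw [eq_div_iff hab, map_mul, map_mul]
  ring

/-- A rational scalar of norm one with given trace behaviour. -/
theorem exists_unit_pair : ∃ ε η : F, (ε ∈ F₀ ∧ ε * σ ε = 1) ∧ (η ∈ F₀ ∧ η * σ η = 1) ∧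
    (ε - 1) * σ (η - 1) - σ (ε - 1) * (η - 1) ≠ 0 := by
  obtain ⟨τ, hτ, hne⟩ := d.moved
  have hτ0 : τ ≠ 0 := fun e => hne (by rw [e, map_zero])
  have hστ : σ τ ≠ 0 := (map_ne_zero σ).2 hτ0
  have hτ1 : τ + 1 ≠ 0 := fun e => hne (by
    rw [eq_neg_of_add_eq_zero_left e, map_neg, map_one])
  have hστ1 : σ τ + 1 ≠ 0 := fun e => hτ1 (σ.injective (by rw [map_add, map_one, e, map_zero]))
  refine ⟨τ / σ τ, (τ + 1) / (σ τ + 1), ⟨F₀.div_mem hτ (d.setting.sigma_mem τ hτ), ?_⟩,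
    ⟨F₀.div_mem (F₀.add_mem hτ F₀.one_mem) (F₀.add_mem (d.setting.sigma_mem τ hτ) F₀.one_mem), ?_⟩, ?_⟩
  · rw [map_div₀, d.setting.sigma_sigma]; field_simp
  · rw [map_div₀, map_add, map_add, map_one, d.setting.sigma_sigma]; field_simp
  · have hd : τ - σ τ ≠ 0 := sub_ne_zero.2 (Ne.symm hne)
    have : (τ / σ τ - 1) * σ ((τ + 1) / (σ τ + 1) - 1) - σ (τ / σ τ - 1) * ((τ + 1) / (σ τ + 1) - 1) =
        (τ - σ τ) ^ 3 * -1 / (τ * σ τ * (τ + 1) * (σ τ + 1)) := by
      rw [map_sub, map_sub, map_div₀, map_div₀, map_add, map_add, map_one, d.setting.sigma_sigma]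
      field_simp
      ring
    rw [this]
    exact div_ne_zero (mul_ne_zero (pow_ne_zero 3 hd) (neg_ne_zero.2 one_ne_zero))
      (mul_ne_zero (mul_ne_zero (mul_ne_zero hτ0 hστ) hτ1) hστ1)

theorem exists_frame : ∃ e e' a, Frame F₀ f e e' a := by
  have hs := d.setting
  haveI : Module.Finite F₀ (Fin 3 → F) := Module.Finite.of_finite
  obtain ⟨e, he, he0, hee⟩ := hs.exists_iso₂ d.c₀_mem (ratVecs (Fin 3) F₀) le_rfl
    (by rw [finrank_ratVecs, Fintype.card_fin]; omega)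
  obtain ⟨v, hv, hve⟩ : ∃ v ∈ ratVecs (Fin 3) F₀, f v e ≠ 0 := by
    by_contra h
    push Not at h
    exact he0 (hs.eq_zero_of_orth_rat h)
  obtain ⟨t, ht, hiso⟩ := hs.shift v hv e he hee hve
  set e₁ := v + t • e with he₁
  have he₁e : f e₁ e = f v e := by
    rw [he₁, hs.sesq.add_left, hs.sesq.smul_left, hee, mul_zero, add_zero]
  set k := f v e with hk
  set e' := k⁻¹ • e₁ with he'
  have hre' : e' ∈ ratVecs (Fin 3) F₀ := smul_mem_ratVecs (F₀.inv_mem (hs.rat v hv e he))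
    (Submodule.add_mem _ hv (smul_mem_ratVecs ht he))
  have he'e' : f e' e' = 0 := by
    rw [he', hs.sesq.smul_left, hs.sesq.smul_right, hiso, mul_zero, mul_zero]
  have he'e : f e' e = 1 := by rw [he', hs.sesq.smul_left, he₁e, inv_mul_cancel₀ hve]
  have hee' : f e e' = 1 := by rw [← herm' d e' e, he'e, map_one]
  have hP := hs.finrank_perp ![e, e'] (fun i => by fin_cases i <;> assumption)
  obtain ⟨a, ha, ha0⟩ := Submodule.exists_mem_ne_zero_of_ne_bot (p := hs.perp ![e, e']) (fun h => by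
    rw [h, finrank_bot, Fintype.card_fin] at hP; omega)
  have hae : f a e = 0 := ha.2 0
  have hae' : f a e' = 0 := ha.2 1
  have hea := hs.orth_symm hae
  have he'a := hs.orth_symm hae'
  refine ⟨e, e', a, ⟨he, hre', ha.1, hee, he'e', he'e, hae, hae', fun haa => ?_⟩⟩
  have hind : LinearIndependent F ![e, e', a] := by
    rw [Fintype.linearIndependent_iff]
    intro c hc
    rw [Fin.sum_univ_three] at hc
    simp only [Matrix.cons_val_zero, Matrix.cons_val_one, Matrix.cons_val] at hc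
    have h1 := congrArg (fun x => f x e') hc
    have h2 := congrArg (fun x => f x e) hc
    simp only [hs.sesq.add_left, hs.sesq.smul_left, hee, he'e', hee', he'e, hae, hae', hs.sesq.zero_left,
      mul_zero, mul_one, zero_add, add_zero] at h1 h2
    rw [h1, h2, zero_smul, zero_smul, zero_add, zero_add, smul_eq_zero] at hc
    intro i
    fin_cases i
    exacts [h1, h2, hc.resolve_right ha0]
  obtain ⟨-, ⟨x, hx⟩⟩ := hs.sesq.nondegenerate a ha0
  let b := basisOfLinearIndependentOfCardEqFinrank hind (by simp)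
  have hrep := (b.sum_repr x).symm
  rw [Fin.sum_univ_three] at hrep
  simp only [b, coe_basisOfLinearIndependentOfCardEqFinrank, Matrix.cons_val_zero, Matrix.cons_val_one,
    Matrix.cons_val] at hrep
  apply hx
  rw [hrep]
  simp [hs.sesq.add_left, hs.sesq.smul_left, hs.sesq.add_right, hs.sesq.smul_right, hea, he'a, hae,
    hae', haa]

variable {e e' a : Fin 3 → F} (h : Frame F₀ f e e' a)

include h

theorem Frame.ee' : f e e' = 1 := by rw [← herm' d e' e, h.e'e, map_one]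

theorem Frame.ea : f e a = 0 := d.setting.orth_symm h.ae

theorem Frame.e'a : f e' a = 0 := d.setting.orth_symm h.ae'

theorem Frame.haa : σ (f a a) = f a a := herm' d a a

theorem Frame.repr (x : Fin 3 → F) :
    x = f x e' • e + f x e • e' + (f x a / f a a) • a := by
  have hs := d.setting
  have ha0 : a ≠ 0 := fun e0 => h.aa (by rw [e0, hs.sesq.zero_left])
  have hind : LinearIndependent F ![e, e', a] := by
    rw [Fintype.linearIndependent_iff]
    intro c hc
    rw [Fin.sum_univ_three] at hc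
    simp only [Matrix.cons_val_zero, Matrix.cons_val_one, Matrix.cons_val] at hc
    have h1 := congrArg (fun x => f x e') hc
    have h2 := congrArg (fun x => f x e) hc
    simp only [hs.sesq.add_left, hs.sesq.smul_left, h.ee, h.e'e', h.ee' d, h.e'e, h.ae, h.ae',
      hs.sesq.zero_left, mul_zero, mul_one, zero_add, add_zero] at h1 h2
    rw [h1, h2, zero_smul, zero_smul, zero_add, zero_add, smul_eq_zero] at hc
    intro i
    fin_cases i
    exacts [h1, h2, hc.resolve_right ha0]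
  let b := basisOfLinearIndependentOfCardEqFinrank hind (by simp)
  have hrep := (b.sum_repr x).symm
  rw [Fin.sum_univ_three] at hrep
  simp only [b, coe_basisOfLinearIndependentOfCardEqFinrank, Matrix.cons_val_zero, Matrix.cons_val_one,
    Matrix.cons_val] at hrep
  have h1 := congrArg (fun x => f x e') hrep
  have h2 := congrArg (fun x => f x e) hrep
  have h3 := congrArg (fun x => f x a) hrep
  simp only [hs.sesq.add_left, hs.sesq.smul_left, h.ee, h.e'e', h.ee' d, h.e'e, h.ae, h.ae', h.ea d,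
    h.e'a d, mul_zero, mul_one, zero_add, add_zero] at h1 h2 h3
  rw [h1, h2, h3, mul_div_cancel_right₀ _ h.aa]
  exact hrep

/-- A rational isotropic vector with any third coordinate. -/
theorem Frame.exists_point {ρ : F} (hρ : ρ ∈ F₀) :
    ∃ t ∈ F₀, t + σ t + ρ * σ ρ * f a a = 0 ∧
      (e + t • e' + ρ • a) ∈ ratVecs (Fin 3) F₀ ∧ f (e + t • e' + ρ • a) (e + t • e' + ρ • a) = 0 := by
  have hs := d.setting
  set v := e + ρ • a with hv
  have hre : v ∈ ratVecs (Fin 3) F₀ := Submodule.add_mem _ h.re (smul_mem_ratVecs hρ h.ra)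
  have hve' : f v e' ≠ 0 := by
    rw [hv, hs.sesq.add_left, hs.sesq.smul_left, h.ee' d, h.ae', mul_zero, add_zero]
    exact one_ne_zero
  obtain ⟨t, ht, hiso⟩ := hs.shift v hre e' h.re' h.e'e' hve'
  have e1 : v + t • e' = e + t • e' + ρ • a := by rw [hv]; abel
  rw [e1] at hiso
  refine ⟨t, ht, ?_, Submodule.add_mem _ (Submodule.add_mem _ h.re (smul_mem_ratVecs ht h.re'))
    (smul_mem_ratVecs hρ h.ra), hiso⟩
  rw [← hiso]
  simp only [hs.sesq.add_left, hs.sesq.add_right, hs.sesq.smul_left, hs.sesq.smul_right, h.ee, h.e'e',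
    h.ee' d, h.e'e, h.ae, h.ae', h.ea d, h.e'a d]
  ring

/-- An isometry mapping three pairwise non-orthogonal rational isotropic lines to rational lines. -/
theorem mem_of_lines {g : GL (Fin 3) F} (hI : Iso f g)
    (hg : ∀ x ∈ ratVecs (Fin 3) F₀, x ≠ 0 → f x x = 0 →
      ∃ k : F, ∃ v ∈ ratVecs (Fin 3) F₀, (g : Matrix (Fin 3) (Fin 3) F) *ᵥ x = k • v) :
    g ∈ subfieldSubgroup F₀ (1 : GL (Fin 3) F) := by
  have hs := d.setting
  obtain ⟨t, ht, hte, hz, hzz⟩ := h.exists_point d F₀.one_mem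
  set z := e + t • e' + (1 : F) • a with hzdef
  have hze : f z e = t := by
    rw [hzdef]
    simp [hs.sesq.add_left, hs.sesq.smul_left, h.ee, h.e'e, h.ae]
  have hze' : f z e' = 1 := by
    rw [hzdef]
    simp [hs.sesq.add_left, hs.sesq.smul_left, h.ee' d, h.e'e', h.ae']
  have ht0 : t ≠ 0 := fun e0 => by
    rw [e0, map_zero, add_zero, zero_add, map_one, mul_one, one_mul] at hte
    exact h.aa hte
  have he0 : e ≠ 0 := fun e0 => one_ne_zero (α := F) (by rw [← h.e'e, e0, hs.sesq.zero_right])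
  have he'0 : e' ≠ 0 := fun e0 => one_ne_zero (α := F) (by rw [← h.e'e, e0, hs.sesq.zero_left])
  have hz0 : z ≠ 0 := fun e0 => one_ne_zero (α := F) (by rw [← hze', e0, hs.sesq.zero_left])
  obtain ⟨k₁, v₁, hv₁, hg₁⟩ := hg e h.re he0 h.ee
  obtain ⟨k₂, v₂, hv₂, hg₂⟩ := hg e' h.re' he'0 h.e'e'
  obtain ⟨k₃, v₃, hv₃, hg₃⟩ := hg z hz hz0 hzz
  have hprod : ∀ {x y vx vy : Fin 3 → F} {kx ky : F}, x ∈ ratVecs (Fin 3) F₀ → y ∈ ratVecs (Fin 3) F₀ →
      vx ∈ ratVecs (Fin 3) F₀ → vy ∈ ratVecs (Fin 3) F₀ → (g : Matrix (Fin 3) (Fin 3) F) *ᵥ x = kx • vx →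
      (g : Matrix (Fin 3) (Fin 3) F) *ᵥ y = ky • vy → f x y ≠ 0 → kx * σ ky ∈ F₀ := by
    intro x y vx vy kx ky hx hy hvx hvy ex ey hxy
    have h1 := hI x y
    rw [ex, ey, hs.sesq.smul_left, hs.sesq.smul_right, ← mul_assoc] at h1
    have h2 := right_ne_zero_of_mul (h1 ▸ hxy)
    rw [← eq_div_iff h2] at h1
    rw [h1]
    exact F₀.div_mem (hs.rat x hx y hy) (hs.rat vx hvx vy hvy)
  have p12 := hprod h.re h.re' hv₁ hv₂ hg₁ hg₂ (by rw [h.ee' d]; exact one_ne_zero)
  have p13 := hprod h.re hz hv₁ hv₃ hg₁ hg₃ (fun e0 => ht0 (by rw [← hze, ← herm' d e z, e0, map_zero]))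
  have p23 := hprod h.re' hz hv₂ hv₃ hg₂ hg₃ (fun e0 => one_ne_zero (α := F)
    (by rw [← hze', ← herm' d e' z, e0, map_zero]))
  have hk₁ : k₁ ≠ 0 := fun e0 => mulVec_ne_zero g he0 (by rw [hg₁, e0, zero_smul])
  have hk₂ : k₂ ≠ 0 := fun e0 => mulVec_ne_zero g he'0 (by rw [hg₂, e0, zero_smul])
  have hk₃ : k₃ ≠ 0 := fun e0 => mulVec_ne_zero g hz0 (by rw [hg₃, e0, zero_smul])
  have hσk₁ : σ k₁ ≠ 0 := (map_ne_zero σ).2 hk₁
  have hσk₂ : σ k₂ ≠ 0 := (map_ne_zero σ).2 hk₂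
  have hσk₃ : σ k₃ ≠ 0 := (map_ne_zero σ).2 hk₃
  have q2 : k₁⁻¹ * k₂ ∈ F₀ := by
    rw [show k₁⁻¹ * k₂ = (k₂ * σ k₃) / (k₁ * σ k₃) by field_simp]
    exact F₀.div_mem p23 p13
  have q3 : k₁⁻¹ * k₃ ∈ F₀ := by
    have h1 := hs.sigma_mem _ p13
    have h2 := hs.sigma_mem _ p12
    rw [map_mul, hs.sigma_sigma] at h1 h2
    rw [show k₁⁻¹ * k₃ = (k₁⁻¹ * k₂) * ((σ k₁ * k₃) / (σ k₁ * k₂)) by field_simp]
    exact F₀.mul_mem q2 (F₀.div_mem h1 h2)
  have r1 : k₁⁻¹ • ((g : Matrix (Fin 3) (Fin 3) F) *ᵥ e) ∈ ratVecs (Fin 3) F₀ := by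
    rwa [hg₁, inv_smul_smul₀ hk₁]
  have r2 : k₁⁻¹ • ((g : Matrix (Fin 3) (Fin 3) F) *ᵥ e') ∈ ratVecs (Fin 3) F₀ := by
    rw [hg₂, smul_smul]; exact smul_mem_ratVecs q2 hv₂
  have r3 : k₁⁻¹ • ((g : Matrix (Fin 3) (Fin 3) F) *ᵥ a) ∈ ratVecs (Fin 3) F₀ := by
    have e1 : a = z - e - t • e' := by rw [hzdef, one_smul]; abel
    rw [e1, mulVec_sub, mulVec_sub, mulVec_smul, hg₃, smul_sub, smul_sub, smul_smul k₁⁻¹ k₃,
      smul_comm k₁⁻¹ t]
    exact Submodule.sub_mem _ (Submodule.sub_mem _ (smul_mem_ratVecs q3 hv₃) r1)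
      (smul_mem_ratVecs ht r2)
  refine mem_subfieldSubgroup_one_iff.2 ⟨k₁⁻¹, inv_ne_zero hk₁, ratMat_of_mulVec fun x hx => ?_⟩
  rw [smul_mulVec, h.repr d x]
  simp only [mulVec_add, mulVec_smul, smul_add, smul_comm k₁⁻¹]
  exact Submodule.add_mem _ (Submodule.add_mem _ (smul_mem_ratVecs (hs.rat x hx e' h.re') r1)
    (smul_mem_ratVecs (hs.rat x hx e h.re) r2))
    (smul_mem_ratVecs (F₀.div_mem (hs.rat x hx a h.ra) (hs.rat a h.ra a h.ra)) r3)

/-- **A point whose values at the rational points have rational norms is rational.** -/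
theorem line_of_norms {y : Fin 3 → F} (hyy : f y y = 0)
    (hN : ∀ z ∈ ratVecs (Fin 3) F₀, f z z = 0 → f y z * σ (f y z) ∈ F₀) :
    ∃ k : F, ∃ v ∈ ratVecs (Fin 3) F₀, y = k • v := by
  have hs := d.setting
  set α := f y e' with hα
  set β := f y e with hβ
  set h₀ := f a a with hh₀
  have hh : h₀ ∈ F₀ := hs.rat a h.ra a h.ra
  have hσh : σ h₀ = h₀ := h.haa d
  set γ := f y a / h₀ with hγ
  have hy : y = α • e + β • e' + γ • a := h.repr d y
  clear_value α β γ
  have hfya : f y a = γ * h₀ := (eq_div_iff h.aa).1 hγ |>.symm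
  have hzero : α * σ β + β * σ α + h₀ * (γ * σ γ) = 0 := by
    rw [← hyy, hy]
    simp [hs.sesq.add_left, hs.sesq.add_right, hs.sesq.smul_left, hs.sesq.smul_right, h.ee, h.e'e',
      h.ee' d, h.e'e, h.ae, h.ae', h.ea d, h.e'a d]
    rw [hh₀]; ring
  by_cases hγ0 : γ = 0
  · -- on the chord
    rw [hγ0, zero_smul, add_zero] at hy
    by_cases hβ0 : β = 0
    · exact ⟨α, e, h.re, by rw [hy, hβ0, zero_smul, add_zero]⟩
    have hNb : β * σ β ∈ F₀ := hβ ▸ hN e h.re h.ee
    have hNa : α * σ α ∈ F₀ := hα ▸ hN e' h.re' h.e'e'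
    set b := α * σ β / c₀ with hb
    have hbσ : σ b = b := by
      rw [hb, map_div₀, map_mul, hs.sigma_sigma, sigma_c₀ d, div_neg, ← neg_div]
      congr 1
      rw [hγ0, zero_mul, mul_zero, add_zero] at hzero
      linear_combination -hzero
    have hb2 : b * b ∈ F₀ := by
      have e1 : b * b = (α * σ α) * (β * σ β) / -(c₀ * c₀) := by
        nth_rewrite 2 [← hbσ]
        rw [hb, map_div₀, map_mul, hs.sigma_sigma, sigma_c₀ d]
        field_simp
      rw [e1]
      exact F₀.div_mem (F₀.mul_mem hNa hNb) (F₀.neg_mem (F₀.mul_mem d.c₀_mem d.c₀_mem))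
    have hu : α * σ β ∈ F₀ := by
      rw [← div_mul_cancel₀ (α * σ β) hs.c₀_ne, ← hb]
      exact F₀.mul_mem (mem_of_sq d hb2) d.c₀_mem
    have hσβ : σ β ≠ 0 := (map_ne_zero σ).2 hβ0
    refine ⟨β, (α / β) • e + e', Submodule.add_mem _ (smul_mem_ratVecs ?_ h.re) h.re', ?_⟩
    · rw [show α / β = α * σ β / (β * σ β) by field_simp]
      exact F₀.div_mem hu hNb
    · rw [hy, smul_add, smul_smul, mul_div_cancel₀ _ hβ0]
  · set w := h₀ * σ γ * α with hw
    set v := h₀ * σ γ * β with hv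
    obtain ⟨ε, η, ⟨hε, hε1⟩, ⟨hη, hη1⟩, hεη⟩ := exists_unit_pair d
    -- the basic relation
    have key : ∀ ρ ∈ F₀, ρ ≠ 0 → ∀ t ∈ F₀, t + σ t + ρ * σ ρ * h₀ = 0 → v + σ t * w ∈ F₀ := by
      intro ρ hρ hρ0 t ht hte
      have hX : ∀ ξ ∈ F₀, ξ * σ ξ = 1 →
          (β + σ t * α + σ (ξ * ρ) * h₀ * γ) * σ (β + σ t * α + σ (ξ * ρ) * h₀ * γ) ∈ F₀ := by
        intro ξ hξ hξ1
        have hz := hN (e + t • e' + (ξ * ρ) • a) (Submodule.add_mem _ (Submodule.add_mem _ h.re
          (smul_mem_ratVecs ht h.re')) (smul_mem_ratVecs (F₀.mul_mem hξ hρ) h.ra)) (by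
          simp only [hs.sesq.add_left, hs.sesq.add_right, hs.sesq.smul_left, hs.sesq.smul_right, h.ee,
            h.e'e', h.ee' d, h.e'e, h.ae, h.ae', h.ea d, h.e'a d]
          rw [map_mul, ← hh₀]
          linear_combination hte + ρ * σ ρ * h₀ * hξ1)
        rw [hs.sesq.add_right, hs.sesq.add_right, hs.sesq.smul_right, hs.sesq.smul_right, hfya,
          ← hα, ← hβ] at hz
        convert hz using 1
        ring_nf
      have hdiff : ∀ ξ ∈ F₀, ξ * σ ξ = 1 →
          (ξ - 1) * (ρ * (v + σ t * w)) + σ ((ξ - 1) * (ρ * (v + σ t * w))) ∈ F₀ := by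
        intro ξ hξ hξ1
        have h2 := F₀.sub_mem (hX ξ hξ hξ1) (hX 1 F₀.one_mem (by rw [map_one, one_mul]))
        convert h2 using 1
        simp only [hv, hw, map_add, map_mul, map_sub, map_one, hs.sigma_sigma, hσh]
        linear_combination -(ρ * σ ρ * h₀ * h₀ * γ * σ γ) * hξ1
      have hz := mem_of_traces d (F₀.sub_mem hε F₀.one_mem) (F₀.sub_mem hη F₀.one_mem) hεη
        (hdiff ε hε hε1) (hdiff η hη hη1)
      rw [← inv_mul_cancel_left₀ hρ0 (v + σ t * w)]
      exact F₀.mul_mem (F₀.inv_mem hρ) hz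
    obtain ⟨t, ht, hte, -, -⟩ := h.exists_point d F₀.one_mem
    have h1 := key 1 F₀.one_mem one_ne_zero t ht hte
    have h2 := key 1 F₀.one_mem one_ne_zero (t + c₀) (F₀.add_mem ht d.c₀_mem) (by
      rw [map_add, sigma_c₀ d]; linear_combination hte)
    have hwF : w ∈ F₀ := by
      have h3 := F₀.mul_mem (F₀.inv_mem d.c₀_mem) (F₀.sub_mem h1 h2)
      convert h3 using 1
      rw [map_add, sigma_c₀ d, eq_inv_mul_iff_mul_eq₀ hs.c₀_ne]
      ring
    have hvF : v ∈ F₀ := by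
      have := F₀.sub_mem h1 (F₀.mul_mem (hs.sigma_mem t ht) hwF)
      simpa using this
    set m := h₀ * (γ * σ γ) with hm
    have hmF : m ∈ F₀ := by
      apply mem_of_sq d
      have e1 : m * m = -(σ w * v + w * σ v) / h₀ := by
        rw [eq_div_iff h.aa, hv, hw, hm]
        simp only [map_mul, hs.sigma_sigma, hσh]
        linear_combination h₀ * h₀ * γ * σ γ * hzero
      rw [e1]
      exact F₀.div_mem (F₀.neg_mem (F₀.add_mem (F₀.mul_mem (hs.sigma_mem w hwF) hvF)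
        (F₀.mul_mem hwF (hs.sigma_mem v hvF)))) hh
    have hk : h₀ * σ γ ≠ 0 := mul_ne_zero h.aa ((map_ne_zero σ).2 hγ0)
    refine ⟨(h₀ * σ γ)⁻¹, w • e + v • e' + m • a, Submodule.add_mem _ (Submodule.add_mem _
      (smul_mem_ratVecs hwF h.re) (smul_mem_ratVecs hvF h.re')) (smul_mem_ratVecs hmF h.ra), ?_⟩
    rw [eq_inv_smul_iff₀ hk, hy, smul_add, smul_add, smul_smul, smul_smul, smul_smul, hw, hv, hm]
    congr 2
    ring

end CfsgLib.SUThree.SubOdd
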